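import Cfsg.Agent.Lib.FourRankOne.Endgame
import Cfsg.Agent.Lib.FourRankOne.Shape
import Cfsg.Agent.Lib.FourRankOne.Transfer

/-!
# An involutory automorphism of a perfect group with cyclic fixed Sylow subgroup of order four: the setting
-/

set_option autoImplicit false
set_option linter.unusedSectionVars false
set_option linter.style.haveILetI false

namespace CfsgLib.FixedFour

open CfsgLib.FourRankOne

variable {G : Type*} [Group G] [Finite G]

/-- A Sylow 2-subgroup `S` of `G` containing the involution `t`, where `G = A ∪ t A` with `A` perfect, such that the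
2-subgroups of `A` centralizing `t` have order at most four and one involution, and `x` of order four is one of
their elements. -/
structure Cfg (A S : Subgroup G) (t x z : G) : Prop where
  perfect : ⁅A, A⁆ = A
  normal : A.Normal
  cover : ∀ g, g ∈ A ∨ t * g ∈ A
  t2 : t * t = 1
  tA : t ∉ A
  one : ∀ a ∈ A, ∀ b ∈ A, a * a = 1 → b * b = 1 → a ≠ 1 → b ≠ 1 → t * a = a * t → t * b = b * t →
    a * b = b * a → a = b
  four : ∀ Q : Subgroup G, IsPGroup 2 Q → Q ≤ A → (∀ q ∈ Q, t * q = q * t) → Nat.card Q ≤ 4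
  S2 : IsPGroup 2 S
  Sodd : ¬ 2 ∣ S.index
  tS : t ∈ S
  xP : x ∈ S ⊓ A
  tx : t * x = x * t
  xz : x * x = z
  z2 : z * z = 1
  z1 : z ≠ 1
  zc : ∀ s ∈ S, s * z = z * s

variable {A S : Subgroup G} {t x z : G}

namespace Cfg

theorem tz (h : Cfg A S t x z) : t * z = z * t := h.zc t h.tS

theorem zP (h : Cfg A S t x z) : z ∈ S ⊓ A := h.xz ▸ mul_mem h.xP h.xP

theorem x1 (h : Cfg A S t x z) : x ≠ 1 := fun e => h.z1 (by rw [← h.xz, e, one_mul])

theorem xz_ne (h : Cfg A S t x z) : x ≠ z := fun e => h.z1 (by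
  have h1 := h.xz
  rw [e, h.z2] at h1
  exact h1.symm)

theorem order_x (h : Cfg A S t x z) : orderOf x = 4 := by
  haveI : Fact (Nat.Prime 2) := ⟨Nat.prime_two⟩
  refine orderOf_eq_prime_pow (p := 2) (n := 1) ?_ ?_
  · rw [pow_one, pow_two, h.xz]; exact h.z1
  · rw [show (2 : ℕ) ^ (1 + 1) = 2 * 2 from rfl, pow_mul, pow_two x, h.xz, pow_two, h.z2]

theorem conj_mem (h : Cfg A S t x z) {s p : G} (hs : s ∈ S) (hp : p ∈ S ⊓ A) : s * p * s⁻¹ ∈ S ⊓ A :=
  Subgroup.mem_inf.mpr ⟨mul_mem (mul_mem hs hp.1) (inv_mem hs), h.normal.conj_mem p hp.2 s⟩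

theorem mem_or (h : Cfg A S t x z) {s : G} (hs : s ∈ S) : s ∈ S ⊓ A ∨ t * s ∈ S ⊓ A :=
  (h.cover s).imp (fun ha => ⟨hs, ha⟩) fun ha => ⟨mul_mem h.tS hs, ha⟩

theorem zc_P (h : Cfg A S t x z) : ∀ p ∈ S ⊓ A, p * z = z * p := fun p hp => h.zc p hp.1

/-- The elements of `P` fixed by `t`. -/
theorem fixed (h : Cfg A S t x z) {p : G} (hp : p ∈ S ⊓ A) (hpt : t * p = p * t) :
    p = 1 ∨ p = z ∨ p = x ∨ p = x * z := by
  let C : Subgroup G := (S ⊓ A) ⊓ Subgroup.centralizer ({t} : Set G)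
  have hC : ∀ q ∈ C, t * q = q * t := fun q hq => (Subgroup.mem_centralizer_singleton_iff.mp hq.2).symm
  have h4 := h.four C (h.S2.to_le (inf_le_left.trans inf_le_left)) (inf_le_left.trans inf_le_right) hC
  have hle : Subgroup.zpowers x ≤ C :=
    Subgroup.zpowers_le.mpr ⟨h.xP, Subgroup.mem_centralizer_singleton_iff.mpr h.tx.symm⟩
  have heq := Subgroup.eq_of_le_of_card_ge hle (by rw [Nat.card_zpowers, h.order_x]; exact h4)
  have hp' : p ∈ Subgroup.zpowers x := heq ▸ ⟨hp, Subgroup.mem_centralizer_singleton_iff.mpr hpt.symm⟩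
  obtain ⟨i, rfl⟩ := Subgroup.mem_zpowers_iff.mp hp'
  rcases Int.even_or_odd' i with ⟨j, rfl | rfl⟩ <;> rcases Int.even_or_odd' j with ⟨k, rfl | rfl⟩
  · left; rw [zpow_mul, zpow_mul, zpow_two x, h.xz, zpow_two, h.z2, one_zpow]
  · right; left
    rw [zpow_mul, zpow_two x, h.xz, zpow_add, zpow_mul, zpow_two, h.z2, one_zpow, one_mul, zpow_one]
  · right; right; left
    rw [zpow_add, zpow_mul, zpow_mul, zpow_two x, h.xz, zpow_two, h.z2, one_zpow, one_mul, zpow_one]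
  · right; right; right
    rw [zpow_add, zpow_mul, zpow_two x, h.xz, zpow_add z, zpow_mul, zpow_two, h.z2, one_zpow, one_mul, zpow_one,
      zpow_one, h.zc x h.xP.1]

/-- The only involution of `P` fixed by `t` is `z`. -/
theorem fixed_invol (h : Cfg A S t x z) {p : G} (hp : p ∈ S ⊓ A) (hpp : p * p = 1) (hpt : t * p = p * t) :
    p = 1 ∨ p = z := by
  rcases h.fixed hp hpt with e | e | e | e
  · exact Or.inl e
  · exact Or.inr e
  · exact absurd (by rw [← h.xz, ← e, hpp]) h.z1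
  · refine absurd ?_ h.z1
    rw [← hpp, e, show x * z * (x * z) = x * (z * x) * z by simp only [mul_assoc], ← h.zc x h.xP.1, ← mul_assoc,
      h.xz, mul_assoc, h.z2, mul_one]

theorem index_A (h : Cfg A S t x z) : A.index = 2 ∧ A.relIndex S = 2 := by
  have hb : ∀ b, b * t ∈ A ∨ b ∈ A := fun b => (h.cover b).symm.imp_left fun ha => by
    have := h.normal.conj_mem _ ha t
    rwa [← mul_assoc t, h.t2, one_mul, inv_eq_of_mul_eq_one_right h.t2] at this
  exact ⟨Subgroup.index_eq_two_iff_exists_notMem_and.mpr ⟨t, h.tA, hb⟩,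
    Subgroup.relIndex_eq_two_iff_exists_notMem_and.mpr ⟨t, h.tS, h.tA, fun b _ => hb b⟩⟩

theorem Podd (h : Cfg A S t x z) : ¬ 2 ∣ (S ⊓ A).relIndex A := by
  have e1 := Subgroup.relIndex_mul_index (inf_le_left : S ⊓ A ≤ S)
  have e2 := Subgroup.relIndex_mul_index (inf_le_right : S ⊓ A ≤ A)
  rw [Subgroup.inf_relIndex_left, h.index_A.2, ← e2, h.index_A.1] at e1
  rw [show (S ⊓ A).relIndex A = S.index by omega]
  exact h.Sodd

theorem Pp (h : Cfg A S t x z) : IsPGroup 2 ↥(S ⊓ A) := h.S2.to_le inf_le_left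

/-- Transfer in `A`. -/
theorem value_A (h : Cfg A S t x z) {B : Type*} [CommGroup B] (φ : ↥(S ⊓ A) →* B) {y : G} (hyA : y ∈ A)
    (hy : y * y = 1) (Q : Subgroup G) (hQ : IsPGroup 2 Q) (hQA : Q ≤ A) (hyQ : y ∈ Q)
    (hcomm : ∀ q ∈ Q, q * y = y * q) (b : B)
    (hall : ∀ g ∈ A, (∀ q ∈ Q, g⁻¹ * q * g ∈ S ⊓ A) → ∀ hp : g⁻¹ * y * g ∈ S ⊓ A, φ ⟨g⁻¹ * y * g, hp⟩ = b) :
    b = 1 := by
  have hperf : commutator A = ⊤ := Subgroup.map_injective A.subtype_injective (by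
    rw [← MonoidHom.range_eq_map, Subgroup.range_subtype, commutator_def, Subgroup.map_commutator,
      ← MonoidHom.range_eq_map, Subgroup.range_subtype, h.perfect])
  refine value_eq_one hperf ((S ⊓ A).subgroupOf A) h.Podd
    (φ.comp (Subgroup.subgroupOfEquivOfLe inf_le_right).toMonoidHom) ⟨y, hyA⟩ (Subtype.ext hy)
    (Q.subgroupOf A) (hQ.of_equiv (Subgroup.subgroupOfEquivOfLe hQA).symm) hyQ
    (fun q hq => Subtype.ext (hcomm q hq)) b fun g hg hp => ?_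
  exact hall g g.2 (fun q hq => hg ⟨q, hQA hq⟩ hq) hp

/-- Transfer in `G` agrees on two involutions outside `A`. -/
theorem value_G (h : Cfg A S t x z) {B : Type*} [CommGroup B] (φ : S →* B) {y : G} (hyA : t * y ∈ A)
    (hy : y * y = 1) (Q Q' : Subgroup G) (hQ : IsPGroup 2 Q) (hQ' : IsPGroup 2 Q') (htQ : t ∈ Q)
    (htc : ∀ q ∈ Q, q * t = t * q) (hyQ : y ∈ Q') (hyc : ∀ q ∈ Q', q * y = y * q) (b b' : B)
    (hall : ∀ g : G, (∀ q ∈ Q, g⁻¹ * q * g ∈ S) → ∀ hp : g⁻¹ * t * g ∈ S, φ ⟨g⁻¹ * t * g, hp⟩ = b)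
    (hall' : ∀ g : G, (∀ q ∈ Q', g⁻¹ * q * g ∈ S) → ∀ hp : g⁻¹ * y * g ∈ S, φ ⟨g⁻¹ * y * g, hp⟩ = b') :
    b * b' = 1 := by
  rw [← transfer_involution S h.Sodd φ t h.t2 Q hQ htQ htc b hall,
    ← transfer_involution S h.Sodd φ y hy Q' hQ' hyQ hyc b' hall', ← map_mul]
  exact map_eq_one_of_perfect _ h.perfect hyA

end Cfg

end CfsgLib.FixedFour
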