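import Cfsg.Agent.Lib.FixedFour.CaseMoved
import Cfsg.Agent.Lib.PGroup.TwoMaximalClass
import Cfsg.Agent.Lib.Char.TwoGroupLinear
import Cfsg.Agent.Lib.Invol.SolvableCore
import Cfsg.Agent.S0949

/-!
# The invariant four-group is central in the Sylow subgroup
-/

set_option autoImplicit false
set_option linter.unusedSectionVars false
set_option linter.style.haveILetI false

open scoped commutatorElement

namespace CfsgLib.FixedFour

open CfsgLib.FourRankOne

variable {G : Type*} [Group G] [Finite G]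
variable {A S : Subgroup G} {t x z w : G}

namespace Four

theorem central_invol (h : Four A S t x z w) {q : G} (hq : q ∈ S ⊓ A) (hqq : q * q = 1)
    (hqc : ∀ p ∈ S ⊓ A, q * p = p * q) : InW z w q := by
  have hq' : t * q * t⁻¹ ∈ S ⊓ A := h.conj_mem h.tS hq
  have htt : ∀ b : G, t * (t * b * t⁻¹) * t⁻¹ = b := fun b => by
    rw [show t * (t * b * t⁻¹) * t⁻¹ = (t * t) * b * (t * t)⁻¹ by group, h.t2]; group
  have hqz : q * (t * q * t⁻¹) * (q * (t * q * t⁻¹)) = 1 := by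
    rw [show q * (t * q * t⁻¹) * (q * (t * q * t⁻¹)) = q * ((t * q * t⁻¹) * q) * (t * q * t⁻¹) by group,
      ← hqc _ hq', ← mul_assoc q q, hqq, one_mul, conj_mul, hqq, mul_one, mul_inv_cancel]
  have hfix : t * (q * (t * q * t⁻¹)) * t⁻¹ = q * (t * q * t⁻¹) := by
    rw [← conj_mul, htt, hqc _ hq']
  have hqinv : ∀ b, q * (t * q * t⁻¹) = b → t * q * t⁻¹ = q * b := fun b hb => by
    rw [← hb, ← mul_assoc, hqq, one_mul]
  rcases h.fixed_invol (mul_mem hq hq') hqz (mul_inv_eq_iff_eq_mul.mp hfix) with e | e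
  · have := hqinv 1 e
    rw [mul_one] at this
    rcases h.fixed_invol hq hqq (mul_inv_eq_iff_eq_mul.mp this) with e' | e'
    · exact Or.inl e'
    · exact Or.inr (Or.inl e')
  · have h2 := hqinv z e
    have hqw : q * w * (q * w) = 1 := by
      rw [show q * w * (q * w) = q * (w * q) * w by group, ← hqc w h.wP, ← mul_assoc q q, hqq, one_mul, h.w2]
    have hfw : t * (q * w) * t⁻¹ = q * w := by
      rw [← conj_mul, h2, h.twt, show q * z * (w * z) = q * (z * w) * z by group, h.zw, mul_assoc, mul_assoc w, h.z2,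
        mul_one]
    have hqe : q = q * w * w := by rw [mul_assoc, h.w2, mul_one]
    have hW : InW z w w := Or.inr (Or.inr (Or.inl rfl))
    rcases h.fixed_invol (mul_mem hq h.wP) hqw (mul_inv_eq_iff_eq_mul.mp hfw) with e' | e' <;> rw [hqe, e']
    · exact h.InW_mul (Or.inl rfl) hW
    · exact h.InW_mul (Or.inr (Or.inl rfl)) hW

theorem roots_fixed (h : Four A S t x z w) (hcen : ∀ p ∈ S ⊓ A, p * w = w * p) {y : G} (hy : y ∈ S ⊓ A)
    (he : InW z w (y⁻¹ * (t * y * t⁻¹))) : InW z w y ∨ InW z w (x⁻¹ * y) := by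
  generalize hedef : y⁻¹ * (t * y * t⁻¹) = e at he
  have hte : t * e * t⁻¹ = e := by
    rw [← hedef, h.f_inv y, hedef, inv_eq_of_mul_eq_one_right (h.InW_sq he)]
  have hty : t * y * t⁻¹ = y * e := by rw [← hedef, mul_inv_cancel_left]
  have hW : InW z w w := Or.inr (Or.inr (Or.inl rfl))
  have fin : ∀ b ∈ S ⊓ A, t * b = b * t → InW z w b ∨ InW z w (x⁻¹ * b) := fun b hb hbt => by
    rcases h.fixed hb hbt with e' | e' | e' | e'
    · exact Or.inl (Or.inl e')
    · exact Or.inl (Or.inr (Or.inl e'))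
    · exact Or.inr (Or.inl (by rw [e', inv_mul_cancel]))
    · exact Or.inr (Or.inr (Or.inl (by rw [e', inv_mul_cancel_left])))
  rcases h.fixed_invol (h.InW_mem he) (h.InW_sq he) (mul_inv_eq_iff_eq_mul.mp hte) with e' | e'
  · exact fin y hy (mul_inv_eq_iff_eq_mul.mp (by rw [hty, e', mul_one]))
  · have hfix : t * (y * w) * t⁻¹ = y * w := by
      rw [← conj_mul, hty, e', h.twt, show y * z * (w * z) = y * (z * w) * z by group, h.zw, mul_assoc,
        mul_assoc w, h.z2, mul_one]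
    have hye : y = y * w * w := by rw [mul_assoc, h.w2, mul_one]
    rcases fin _ (mul_mem hy h.wP) (mul_inv_eq_iff_eq_mul.mp hfix) with e'' | e'' <;> rw [hye]
    · exact Or.inl (h.InW_mul e'' hW)
    · exact Or.inr (by rw [← mul_assoc]; exact h.InW_mul e'' hW)

/-- An abelian subgroup of index at most two which is cyclic modulo the four-group. -/
theorem exists_cyclic_part (h : Four A S t x z w) (hcen : ∀ p ∈ S ⊓ A, p * w = w * p) :
    ∃ (c : G) (C : Subgroup ↥(S ⊓ A)), c ∈ S ⊓ A ∧ (C = ⊤ ∨ C.index = 2) ∧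
      ∀ p ∈ C, ∃ i : ℤ, InW z w ((c ^ i)⁻¹ * (p : G)) := by
  classical
  haveI : Fact (Nat.Prime 2) := ⟨Nat.prime_two⟩
  by_cases hsmall : ∀ p ∈ S ⊓ A, InW z w p ∨ InW z w (x⁻¹ * p)
  · refine ⟨x, ⊤, h.xP, Or.inl rfl, fun p _ => ?_⟩
    rcases hsmall p p.2 with e | e
    · exact ⟨0, by rwa [zpow_zero, inv_one, one_mul]⟩
    · exact ⟨1, by rwa [zpow_one]⟩
  push Not at hsmall
  obtain ⟨p₁, hp₁, hp₁W, hp₁x⟩ := hsmall
  let W : Subgroup S :=
    { carrier := {e | InW z w (e : G)}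
      one_mem' := Or.inl rfl
      mul_mem' := fun {a b} ha hb => h.InW_mul ha hb
      inv_mem' := fun {a} ha => by
        show InW z w ((a : G)⁻¹)
        rw [inv_eq_of_mul_eq_one_right (h.InW_sq ha)]
        exact ha }
  haveI : W.Normal := ⟨fun e he s => by
    show InW z w ((s : G) * (e : G) * (s : G)⁻¹)
    rcases (he : InW z w (e : G)) with e' | e' | e' | e' <;> rw [e']
    · left; group
    · right; left; rw [h.zc s s.2, mul_inv_cancel_right]
    · exact (h.wc s s.2).elim (fun q => Or.inr (Or.inr (Or.inl q))) fun q => Or.inr (Or.inr (Or.inr q))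
    · rw [← conj_mul, h.zc s s.2, mul_inv_cancel_right]
      refine h.InW_mul ?_ (Or.inr (Or.inl rfl))
      exact (h.wc s s.2).elim (fun q => Or.inr (Or.inr (Or.inl q))) fun q => Or.inr (Or.inr (Or.inr q))⟩
  have hY2 : IsPGroup 2 (S ⧸ W) := h.S2.to_quotient W
  let t' : S ⧸ W := ((⟨t, h.tS⟩ : S) : S ⧸ W)
  let x' : S ⧸ W := ((⟨x, h.xP.1⟩ : S) : S ⧸ W)
  -- the centralizer of the image of `t`
  have hcent : ∀ a : S ⧸ W, a * t' = t' * a → a = 1 ∨ a = x' ∨ a = t' ∨ a = t' * x' := by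
    intro a
    induction a using QuotientGroup.induction_on with
    | _ s =>
      intro hs
      have hmem : InW z w (((s : G) * t)⁻¹ * (t * (s : G))) := QuotientGroup.eq.mp hs
      have key : ∀ b : S, (b : G) ∈ S ⊓ A → InW z w ((b : G)⁻¹ * (t * b * t⁻¹)) →
          (b : S ⧸ W) = 1 ∨ (b : S ⧸ W) = x' := by
        intro b hb hbf
        rcases h.roots_fixed hcen hb hbf with e | e
        · exact Or.inl ((QuotientGroup.eq_one_iff b).mpr e)
        · exact Or.inr (QuotientGroup.eq.mpr e).symm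
      have hconj : ∀ e, InW z w e → InW z w (t * e * t⁻¹) := fun e he =>
        (inferInstance : W.Normal).conj_mem ⟨e, (h.InW_mem he).1⟩ he ⟨t, h.tS⟩
      have hf : InW z w ((s : G)⁻¹ * (t * s * t⁻¹)) := by
        have := hconj _ hmem
        rwa [show t * (((s : G) * t)⁻¹ * (t * (s : G))) * t⁻¹ = (s : G)⁻¹ * (t * s * t⁻¹) by group] at this
      rcases h.mem_or s.2 with hp | hp
      · exact (key s hp hf).imp_right Or.inl
      · have hts : InW z w (((⟨t, h.tS⟩ * s : S) : G)⁻¹ * (t * (⟨t, h.tS⟩ * s : S) * t⁻¹)) := by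
          show InW z w ((t * (s : G))⁻¹ * (t * (t * s) * t⁻¹))
          rw [show (t * (s : G))⁻¹ * (t * (t * s) * t⁻¹) = (s : G)⁻¹ * (t * s * t⁻¹) by group]
          exact hf
        have ht2 : t' * t' = 1 := by
          refine (QuotientGroup.eq_one_iff _).mpr ?_
          exact Or.inl h.t2
        have hst : (s : S ⧸ W) = t' * ((⟨t, h.tS⟩ * s : S) : S ⧸ W) := by
          rw [QuotientGroup.mk_mul, ← mul_assoc, ht2, one_mul]
        rcases key _ hp hts with e | e <;> rw [hst, e]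
        · right; right; left; rw [mul_one]
        · right; right; right; rfl
  obtain ⟨n, hn⟩ := IsPGroup.iff_card.mp hY2
  haveI : Fintype (S ⧸ W) := Fintype.ofFinite _
  -- at least five elements
  have hn3 : 3 ≤ n := by
    by_contra hlt
    have h4 : Fintype.card (S ⧸ W) ≤ 4 := by
      rw [Fintype.card_eq_nat_card, hn]
      exact (Nat.pow_le_pow_right two_pos (show n ≤ 2 by omega)).trans (by norm_num)
    let a : S ⧸ W := ((⟨p₁, hp₁.1⟩ : S) : S ⧸ W)
    have hA' : ∀ b : S, (b : G) ∈ A → (b : S ⧸ W) ≠ t' ∧ (b : S ⧸ W) ≠ t' * x' := by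
      intro b hb
      constructor
      · intro e
        refine h.tA ?_
        have h1 : InW z w ((b : G)⁻¹ * t) := QuotientGroup.eq.mp e
        have := mul_mem hb (h.InW_mem h1).2
        rwa [mul_inv_cancel_left] at this
      · intro e
        refine h.tA ?_
        have h1 : InW z w ((b : G)⁻¹ * (t * x)) := QuotientGroup.eq.mp e
        have h2 := mul_mem (mul_mem hb (h.InW_mem h1).2) (inv_mem h.xP.2)
        rwa [mul_inv_cancel_left, mul_inv_cancel_right] at h2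
    have ha1 : a ≠ 1 := fun e => hp₁W ((QuotientGroup.eq_one_iff _).mp e)
    have hax : a ≠ x' := fun e => hp₁x (QuotientGroup.eq.mp e.symm)
    have hx1 : x' ≠ 1 := fun e => h.z1 (by
      have := h.InW_sq ((QuotientGroup.eq_one_iff _).mp e : InW z w x)
      rwa [h.xz] at this)
    have h1t : (1 : S ⧸ W) ≠ t' ∧ (1 : S ⧸ W) ≠ t' * x' := by
      simpa using hA' 1 (one_mem A)
    have hl : ([1, x', t', t' * x', a] : List (S ⧸ W)).Nodup := by
      have hxt := hA' ⟨x, h.xP.1⟩ h.xP.2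
      have hat := hA' ⟨p₁, hp₁.1⟩ hp₁.2
      simp only [List.nodup_cons, List.mem_cons, List.not_mem_nil, or_false, not_or, List.nodup_nil, and_true,
        not_false_eq_true]
      exact ⟨⟨hx1.symm, h1t.1, h1t.2, ha1.symm⟩, ⟨hxt.1, hxt.2, hax.symm⟩,
        ⟨fun e => hx1 (mul_eq_left.mp e.symm), hat.1.symm⟩, hat.2.symm⟩
    have := hl.length_le_card
    simp only [List.length_cons, List.length_nil] at this
    omega
  have hc4 : ∀ b : S ⧸ W, b * t' = t' * b → b ∈ ({1, x', t', t' * x'} : Finset (S ⧸ W)) := fun b hb => by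
    simp only [Finset.mem_insert, Finset.mem_singleton]
    exact hcent b hb
  have hlow : 2 ^ n ≤ 4 * Nat.card (commutator (S ⧸ W)) := by
    have hle := Finset.card_le_mul_card_image (f := fun a : S ⧸ W => ⁅a, t'⁆) Finset.univ 4 fun c hc => by
      obtain ⟨a, -, rfl⟩ := Finset.mem_image.mp hc
      refine le_trans (Finset.card_le_card_of_injOn (t := ({1, x', t', t' * x'} : Finset (S ⧸ W)))
        (fun b => a⁻¹ * b) (fun b hb => ?_)
        fun b _ b' _ e => mul_left_cancel e) Finset.card_le_four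
      simp only [Finset.coe_filter, Finset.mem_univ, true_and, Set.mem_setOf_eq, commutatorElement_def] at hb
      refine hc4 _ (mul_inv_eq_iff_eq_mul.mp ?_)
      have hb' : b * t' * b⁻¹ = a * t' * a⁻¹ := mul_right_cancel hb
      rw [show a⁻¹ * b * t' * (a⁻¹ * b)⁻¹ = a⁻¹ * (b * t' * b⁻¹) * a by group, hb']
      group
    rw [Finset.card_univ, Fintype.card_eq_nat_card, hn] at hle
    refine hle.trans (Nat.mul_le_mul_left _ ?_)
    have hsub : ((Finset.univ.image fun a : S ⧸ W => ⁅a, t'⁆) : Set (S ⧸ W)) ⊆ (commutator (S ⧸ W) : Set _) := by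
      intro c hc
      obtain ⟨a, -, rfl⟩ := Finset.mem_image.mp hc
      exact Subgroup.commutator_mem_commutator (Subgroup.mem_top a) (Subgroup.mem_top t')
    have := Set.ncard_le_ncard hsub (Set.toFinite _)
    rwa [Set.ncard_coe_finset, ← Nat.card_coe_set_eq] at this
  have hnc : ¬ IsCyclic (S ⧸ W) := by
    intro hc
    letI : CommGroup (S ⧸ W) := hc.commGroup
    have hle : Fintype.card (S ⧸ W) ≤ 4 := by
      rw [← Finset.card_univ]
      exact (Finset.card_le_card fun b _ => hc4 b (mul_comm b t')).trans Finset.card_le_four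
    rw [Fintype.card_eq_nat_card, hn] at hle
    have := Nat.pow_le_pow_right two_pos hn3
    omega
  have hidx4 : 4 ≤ (commutator (S ⧸ W)).index := by
    by_contra hlt
    refine hnc (Char.TwoGroupLinear.isCyclic_of_abelianization hY2 ?_)
    obtain ⟨d, hd⟩ := hY2.index (commutator (S ⧸ W))
    have hd1 : d ≤ 1 := by
      by_contra hd2
      have := Nat.pow_le_pow_right two_pos (show 2 ≤ d by omega)
      omega
    have hcard : Nat.card (Abelianization (S ⧸ W)) = 2 ^ d := hd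
    rcases (show d = 0 ∨ d = 1 by omega) with rfl | rfl
    · haveI : Subsingleton (Abelianization (S ⧸ W)) := (Nat.card_eq_one_iff_unique.mp hcard).1
      infer_instance
    · exact isCyclic_of_prime_card (hcard.trans (pow_one 2))
  have hcomm : Nat.card (commutator (S ⧸ W)) = 2 ^ (n - 2) := by
    have hmul := (commutator (S ⧸ W)).card_mul_index
    rw [hn] at hmul
    have hn' : 2 ^ n = 4 * 2 ^ (n - 2) := by rw [show 4 = 2 ^ 2 from rfl, ← pow_add]; congr 1; omega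
    refine le_antisymm ?_ (by omega)
    by_contra hgt
    push Not at hgt
    have := Nat.mul_le_mul hgt hidx4
    rw [hmul, hn'] at this
    omega
  obtain ⟨-, D, hDc, hDi⟩ := MaxClass.taussky n (S ⧸ W) hn3 hn hcomm
  let i : ↥(S ⊓ A) →* S ⧸ W := (QuotientGroup.mk' W).comp (Subgroup.inclusion inf_le_left)
  let C : Subgroup ↥(S ⊓ A) := D.comap i
  have hCidx : C = ⊤ ∨ C.index = 2 := by
    by_cases hC : C = ⊤
    · exact Or.inl hC
    refine Or.inr ?_
    obtain ⟨d, -, hd⟩ := SetLike.exists_of_lt (lt_top_iff_ne_top.mpr hC)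
    refine Subgroup.index_eq_two_iff_exists_notMem_and.mpr ⟨d, hd, fun b => ?_⟩
    by_cases hb : b ∈ C
    · exact Or.inr hb
    · refine Or.inl ?_
      show i (b * d) ∈ D
      rw [map_mul]
      exact (Subgroup.mul_mem_iff_of_index_two hDi).mpr ⟨fun hc => absurd hc hb, fun hc => absurd hc hd⟩
  haveI : IsCyclic ↥(C.map i) :=
    isCyclic_of_injective (Subgroup.inclusion (Subgroup.map_comap_le _ _ : C.map i ≤ D))
      (Subgroup.inclusion_injective _)
  obtain ⟨⟨γ, hγ⟩, hgen⟩ := (inferInstance : IsCyclic ↥(C.map i)).exists_generator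
  obtain ⟨c, -, rfl⟩ := Subgroup.mem_map.mp hγ
  refine ⟨c, C, c.2, hCidx, fun p hp => ?_⟩
  obtain ⟨k, hk⟩ := Subgroup.mem_zpowers_iff.mp (hgen ⟨i p, Subgroup.mem_map_of_mem i hp⟩)
  have hk' : i (c ^ k) = i p := by rw [map_zpow]; exact congrArg Subtype.val hk
  refine ⟨k, ?_⟩
  have h1 := QuotientGroup.eq.mp (show ((Subgroup.inclusion inf_le_left (c ^ k) : S) : S ⧸ W) =
    ((Subgroup.inclusion inf_le_left p : S) : S ⧸ W) from hk')
  simpa using (show InW z w _ from h1)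

theorem commutator_cyclic (h : Four A S t x z w) (hcen : ∀ p ∈ S ⊓ A, p * w = w * p) :
    ∃ e₀ : G, ⁅S ⊓ A, S ⊓ A⁆ ≤ Subgroup.zpowers e₀ := by
  obtain ⟨c, C, hc, hidx, hC⟩ := h.exists_cyclic_part hcen
  have hWc : ∀ {e : G}, InW z w e → ∀ p ∈ S ⊓ A, p * e = e * p := fun he p hp => h.InW_comm hp (hcen p hp) he
  have habC : ∀ p q : ↥(S ⊓ A), p ∈ C → q ∈ C → (p : G) * q = q * p := by
    intro p q hp hq
    obtain ⟨i, hi⟩ := hC p hp
    obtain ⟨j, hj⟩ := hC q hq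
    generalize hei : (c ^ i)⁻¹ * (p : G) = e at hi
    generalize hej : (c ^ j)⁻¹ * (q : G) = f at hj
    rw [show (p : G) = c ^ i * e by rw [← hei, mul_inv_cancel_left],
      show (q : G) = c ^ j * f by rw [← hej, mul_inv_cancel_left]]
    have hp' : Commute (c ^ i) f := hWc hj _ (zpow_mem hc i)
    have hq' : Commute (c ^ j) e := hWc hi _ (zpow_mem hc j)
    have hef : Commute e f := hWc hj _ (h.InW_mem hi)
    exact ((((Commute.refl c).zpow_zpow i j).mul_right hp').mul_left (hq'.symm.mul_right hef)).eq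
  have hPP : ⁅S ⊓ A, S ⊓ A⁆ = (commutator ↥(S ⊓ A)).map (S ⊓ A).subtype := by
    rw [commutator_def, Subgroup.map_commutator, ← MonoidHom.range_eq_map, Subgroup.range_subtype]
  by_cases hcomm : commutator ↥(S ⊓ A) = ⊥
  · exact ⟨1, by rw [hPP, hcomm, Subgroup.map_bot]; exact bot_le⟩
  have hC2 : C.index = 2 := by
    refine hidx.resolve_left fun hC => hcomm ?_
    rw [eq_bot_iff, commutator_def, Subgroup.commutator_le]
    intro a _ b _
    rw [Subgroup.mem_bot, commutatorElement_eq_one_iff_mul_comm]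
    exact Subtype.ext (habC a b (hC ▸ Subgroup.mem_top a) (hC ▸ Subgroup.mem_top b))
  haveI : IsMulCommutative C := ⟨⟨fun a b => Subtype.ext (Subtype.ext (habC a b a.2 b.2))⟩⟩
  obtain ⟨d, hd⟩ : ∃ d, d ∉ C := by
    by_contra hall
    push Not at hall
    rw [show C = ⊤ from eq_top_iff.mpr fun p _ => hall p, Subgroup.index_top] at hC2
    omega
  obtain ⟨-, himg⟩ := MaxClass.index_two_facts C hC2 hd hcomm
  refine ⟨c⁻¹ * ((d : G) * c * (d : G)⁻¹), ?_⟩
  rw [hPP]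
  intro a ha
  obtain ⟨a', ha', rfl⟩ := Subgroup.mem_map.mp ha
  obtain ⟨b, hb, hab⟩ := himg a' ha'
  obtain ⟨i, hi⟩ := hC b hb
  generalize hei : (c ^ i)⁻¹ * (b : G) = e at hi
  by_cases hi0 : i = 0
  · subst hi0
    have hbe : (b : G) = e := by rw [← hei, zpow_zero, inv_one, one_mul]
    show ((a' : ↥(S ⊓ A)) : G) ∈ _
    suffices he : ((a' : ↥(S ⊓ A)) : G) = 1 by rw [he]; exact one_mem _
    rw [hab]
    show (b : G)⁻¹ * ((d : G) * b * (d : G)⁻¹) = 1
    rw [hbe, hWc hi d d.2, mul_inv_cancel_right, inv_mul_cancel]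
  refine Subgroup.mem_zpowers_iff.mpr ⟨i, ?_⟩
  show _ = ((a' : ↥(S ⊓ A)) : G)
  rw [hab]
  show (c⁻¹ * ((d : G) * c * (d : G)⁻¹)) ^ i = (b : G)⁻¹ * ((d : G) * b * (d : G)⁻¹)
  have hcc : Commute c⁻¹ ((d : G) * c * (d : G)⁻¹) := by
    -- both lie in the abelian subgroup `C`, up to the central four-group
    haveI hCn : C.Normal := Subgroup.normal_of_index_eq_two hC2
    by_cases hcC : (⟨c, hc⟩ : ↥(S ⊓ A)) ∈ C
    · exact habC ⟨c, hc⟩⁻¹ (d * ⟨c, hc⟩ * d⁻¹) (inv_mem hcC) (hCn.conj_mem _ hcC d)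
    · have hd' : (⟨c, hc⟩ : ↥(S ⊓ A))⁻¹ * d ∈ C :=
        (Subgroup.mul_mem_iff_of_index_two hC2).mpr
          ⟨fun hh => absurd (inv_mem_iff.mp hh) hcC, fun hh => absurd hh hd⟩
      obtain ⟨j, hj⟩ := hC _ hd'
      generalize hej : (c ^ j)⁻¹ * (((⟨c, hc⟩ : ↥(S ⊓ A))⁻¹ * d : ↥(S ⊓ A)) : G) = f at hj
      have hdf : (d : G) = c * (c ^ j * f) := by
        rw [← hej, mul_inv_cancel_left]
        show _ = c * (c⁻¹ * (d : G))
        rw [mul_inv_cancel_left]
      have hdc : (d : G) * c * (d : G)⁻¹ = c := by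
        refine mul_inv_eq_iff_eq_mul.mpr ?_
        rw [hdf]
        exact ((Commute.refl c).mul_left (((Commute.refl c).zpow_left j).mul_left (hWc hj c hc).symm)).eq
      rw [hdc]
      exact (Commute.refl c).inv_left
  rw [hcc.mul_zpow, conj_zpow, show (b : G) = c ^ i * e by rw [← hei, mul_inv_cancel_left], inv_zpow]
  rw [show (c ^ i * e)⁻¹ * ((d : G) * (c ^ i * e) * (d : G)⁻¹) =
    e⁻¹ * ((c ^ i)⁻¹ * ((d : G) * c ^ i * (d : G)⁻¹)) * ((d : G) * e * (d : G)⁻¹) by group,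
    hWc hi d d.2, mul_inv_cancel_right]
  have hm : (c ^ i)⁻¹ * ((d : G) * c ^ i * (d : G)⁻¹) ∈ S ⊓ A :=
    mul_mem (inv_mem (zpow_mem hc i)) (mul_mem (mul_mem d.2 (zpow_mem hc i)) (inv_mem d.2))
  rw [mul_assoc e⁻¹, hWc hi _ hm, inv_mul_cancel_left]

theorem invol_zpowers {e₀ a b : G} (ha : a ∈ Subgroup.zpowers e₀) (hb : b ∈ Subgroup.zpowers e₀) (ha2 : a * a = 1)
    (hb2 : b * b = 1) (ha1 : a ≠ 1) (hb1 : b ≠ 1) : a = b := by
  haveI : IsCyclic (Subgroup.zpowers e₀) := inferInstance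
  classical
  haveI : Fintype (Subgroup.zpowers e₀) := Fintype.ofFinite _
  have h := IsCyclic.card_pow_eq_one_le (α := Subgroup.zpowers e₀) (n := 2) two_pos
  by_contra hne
  have hsub : ({1, ⟨a, ha⟩, ⟨b, hb⟩} : Finset (Subgroup.zpowers e₀)) ⊆
      Finset.univ.filter fun y => y ^ 2 = 1 := by
    intro y hy
    simp only [Finset.mem_insert, Finset.mem_singleton] at hy
    refine Finset.mem_filter.mpr ⟨Finset.mem_univ _, ?_⟩
    rcases hy with rfl | rfl | rfl
    · exact one_pow 2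
    · exact Subtype.ext (by simpa [pow_two] using ha2)
    · exact Subtype.ext (by simpa [pow_two] using hb2)
  have h3 : ({1, ⟨a, ha⟩, ⟨b, hb⟩} : Finset (Subgroup.zpowers e₀)).card = 3 := by
    rw [Finset.card_eq_three]
    exact ⟨_, _, _, fun e => ha1 (congrArg Subtype.val e).symm, fun e => hb1 (congrArg Subtype.val e).symm,
      fun e => hne (congrArg Subtype.val e), rfl⟩
  have := (Finset.card_le_card hsub).trans h
  omega

theorem commute_of_moves (h : Four A S t x z w) {g : G} (hgN : ∀ p ∈ S ⊓ A, g⁻¹ * p * g ∈ S ⊓ A)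
    (hgz : g⁻¹ * z * g ≠ z) {e₀ : G} (he₀ : ⁅S ⊓ A, S ⊓ A⁆ ≤ Subgroup.zpowers e₀) :
    ∀ p ∈ S ⊓ A, ∀ q ∈ S ⊓ A, p * q = q * p := by
  by_contra hna
  push Not at hna
  obtain ⟨p, hp, q, hq, hpq⟩ := hna
  haveI : Fact (Nat.Prime 2) := ⟨Nat.prime_two⟩
  have hne : commutator ↥(S ⊓ A) ≠ ⊥ := fun hb => hpq (congrArg Subtype.val
    (MaxClass.comm_eq_of_commutator_eq_bot hb (⟨p, hp⟩ : ↥(S ⊓ A)) ⟨q, hq⟩))
  obtain ⟨e, he, he1, he2, hec⟩ := FourRankOne.exists_central h.toCfg.Pp (commutator ↥(S ⊓ A)) hne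
  have hPP : ⁅S ⊓ A, S ⊓ A⁆ = (commutator ↥(S ⊓ A)).map (S ⊓ A).subtype := by
    rw [commutator_def, Subgroup.map_commutator, ← MonoidHom.range_eq_map, Subgroup.range_subtype]
  have heP : (e : G) ∈ ⁅S ⊓ A, S ⊓ A⁆ := hPP ▸ Subgroup.mem_map_of_mem _ he
  have he1' : (e : G) ≠ 1 := fun hh => he1 (Subtype.ext hh)
  have hz0 : (e : G) * e = 1 := congrArg Subtype.val he2
  have hmap : ∀ s : G, (∀ a ∈ S ⊓ A, s * a * s⁻¹ ∈ S ⊓ A) →
      ∀ b ∈ ⁅S ⊓ A, S ⊓ A⁆, s * b * s⁻¹ ∈ ⁅S ⊓ A, S ⊓ A⁆ := by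
    intro s hs b hb
    have hle : (S ⊓ A).map (MulAut.conj s).toMonoidHom ≤ S ⊓ A := by
      rintro _ ⟨a, ha, rfl⟩
      exact hs a ha
    have h1 := Subgroup.mem_map_of_mem (MulAut.conj s).toMonoidHom hb
    rw [Subgroup.map_commutator] at h1
    exact Subgroup.commutator_mono hle hle h1
  have huniq : ∀ s : G, (∀ a ∈ S ⊓ A, s * a * s⁻¹ ∈ S ⊓ A) → s * (e : G) * s⁻¹ = e := by
    intro s hs
    refine invol_zpowers (he₀ (hmap s hs e heP)) (he₀ heP) ?_ hz0 (fun hh => he1' (conj_eq_one_iff.mp hh)) he1'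
    rw [conj_mul, hz0, mul_one, mul_inv_cancel]
  have hez : (e : G) = z := (h.fixed_invol e.2 hz0
    (mul_inv_eq_iff_eq_mul.mp (huniq t fun a ha => h.conj_mem h.tS ha))).resolve_left he1'
  refine hgz ?_
  have := huniq g⁻¹ fun a ha => by rw [inv_inv]; exact hgN a ha
  rwa [hez, inv_inv] at this

/-- Exponent at most four. -/
theorem pow_four_of_moves (h : Four A S t x z w) (hcen : ∀ p ∈ S ⊓ A, p * w = w * p)
    (hab : ∀ p ∈ S ⊓ A, ∀ q ∈ S ⊓ A, p * q = q * p) {g : G} (hgN : ∀ p ∈ S ⊓ A, g⁻¹ * p * g ∈ S ⊓ A)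
    (hgz : g⁻¹ * z * g ≠ z) : ∀ p ∈ S ⊓ A, p * p * (p * p) = 1 := by
  classical
  obtain ⟨n₀, hn₀⟩ : ∃ n, ∀ p ∈ S ⊓ A, p ^ 2 ^ n = 1 := by
    obtain ⟨n, hn⟩ := IsPGroup.iff_card.mp h.toCfg.Pp
    refine ⟨n, fun p hp => ?_⟩
    have := pow_card_eq_one' (x := (⟨p, hp⟩ : ↥(S ⊓ A)))
    rw [hn] at this
    exact congrArg Subtype.val this
  let n := Nat.find (⟨n₀, hn₀⟩ : ∃ n, ∀ p ∈ S ⊓ A, p ^ 2 ^ n = 1)
  have hnspec : ∀ p ∈ S ⊓ A, p ^ 2 ^ n = 1 := Nat.find_spec (⟨n₀, hn₀⟩ : ∃ n, ∀ p ∈ S ⊓ A, p ^ 2 ^ n = 1)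
  by_cases hn2 : n ≤ 2
  · intro p hp
    obtain ⟨k, hk⟩ := pow_dvd_pow (2 : ℕ) hn2
    rw [show p * p * (p * p) = p ^ (2 ^ 2) by simp [pow_succ, mul_assoc], hk, pow_mul, hnspec p hp, one_pow]
  exfalso
  obtain ⟨m, hm⟩ : ∃ m, n = m + 3 := ⟨n - 3, by omega⟩
  have hmin := Nat.find_min (⟨n₀, hn₀⟩ : ∃ n, ∀ p ∈ S ⊓ A, p ^ 2 ^ n = 1) (show m + 2 < n by omega)
  push Not at hmin
  obtain ⟨p, hp, hpne⟩ := hmin
  obtain ⟨c, C, hc, hidx, hC⟩ := h.exists_cyclic_part hcen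
  -- all `2 ^ (m + 2)`-th powers are powers of `c`
  have hcyc : ∀ q ∈ S ⊓ A, q ^ 2 ^ (m + 2) ∈ Subgroup.zpowers c := by
    intro q hq
    have key : ∀ (b : ↥(S ⊓ A)) (l : ℕ), b ∈ C → 1 ≤ l → (b : G) ^ 2 ^ l ∈ Subgroup.zpowers c := by
      intro b l hb hl
      obtain ⟨i, hi⟩ := hC b hb
      generalize hei : (c ^ i)⁻¹ * (b : G) = e at hi
      rw [show (b : G) = c ^ i * e by rw [← hei, mul_inv_cancel_left],
        (show Commute (c ^ i) e from hab _ (zpow_mem hc i) _ (h.InW_mem hi)).mul_pow]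
      obtain ⟨l', rfl⟩ : ∃ l', l = l' + 1 := ⟨l - 1, by omega⟩
      rw [show e ^ 2 ^ (l' + 1) = 1 by rw [pow_succ', pow_mul, pow_two, h.InW_sq hi, one_pow], mul_one]
      exact pow_mem (Subgroup.zpow_mem_zpowers c i) _
    rcases hidx with hC' | hC'
    · exact key ⟨q, hq⟩ (m + 2) (hC' ▸ Subgroup.mem_top _) (by omega)
    · rw [show m + 2 = (m + 1) + 1 from rfl, pow_succ', pow_mul, pow_two]
      exact key (⟨q, hq⟩ * ⟨q, hq⟩) (m + 1) (Subgroup.mul_self_mem_of_index_two hC' _) (by omega)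
  set e := p ^ 2 ^ (m + 2) with he
  have hee : ∀ q ∈ S ⊓ A, q ^ 2 ^ (m + 2) * q ^ 2 ^ (m + 2) = 1 := fun q hq => by
    rw [← pow_add, ← two_mul, ← pow_succ', show m + 2 + 1 = n by omega]; exact hnspec q hq
  have hconj : ∀ s : G, (∀ q ∈ S ⊓ A, s * q * s⁻¹ ∈ S ⊓ A) → s * e * s⁻¹ = e := by
    intro s hs
    refine invol_zpowers ?_ (hcyc p hp) ?_ (hee p hp) (fun hh => hpne (conj_eq_one_iff.mp hh)) hpne
    · rw [he, ← conj_pow]; exact hcyc _ (hs p hp)
    · rw [he, ← conj_pow]; exact hee _ (hs p hp)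
  have hez : e = z := (h.fixed_invol (pow_mem hp _) (hee p hp)
    (mul_inv_eq_iff_eq_mul.mp (hconj t fun q hq => h.conj_mem h.tS hq))).resolve_left hpne
  refine hgz ?_
  have := hconj g⁻¹ fun q hq => by rw [inv_inv]; exact hgN q hq
  rwa [hez, inv_inv] at this

theorem false_of_homocyclic (h : Four A S t x z w) (hab : ∀ p ∈ S ⊓ A, ∀ q ∈ S ⊓ A, p * q = q * p)
    (h4 : ∀ p ∈ S ⊓ A, p * p * (p * p) = 1) {g : G} (hgN : ∀ p ∈ S ⊓ A, g⁻¹ * p * g ∈ S ⊓ A)
    (hgz : g⁻¹ * z * g ≠ z) : False := by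
  classical
  haveI : Fact (Nat.Prime 2) := ⟨Nat.prime_two⟩
  set u := g⁻¹ * x * g with hu
  set z' := g⁻¹ * z * g with hz'
  have huP : u ∈ S ⊓ A := hgN x h.xP
  have hz'P : z' ∈ S ⊓ A := hgN z h.zP
  have huu : u * u = z' := by rw [hu, hz', ← h.xz]; group
  have hz'2 : z' * z' = 1 := by
    rw [hz', show g⁻¹ * z * g * (g⁻¹ * z * g) = g⁻¹ * (z * z) * g by group, h.z2, mul_one, inv_mul_cancel]
  have hz'1 : z' ≠ 1 := fun e => h.z1 ((conj_eq_one_iff (a := g⁻¹)).mp (by rw [inv_inv]; exact e))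
  have hinv : ∀ p ∈ S ⊓ A, p * p = 1 → InW z w p := fun p hp hpp => h.central_invol hp hpp fun q hq => hab p hp q hq
  have hpq : ∀ p ∈ S ⊓ A, p * p = 1 → p = 1 ∨ p = z ∨ p = z' ∨ p = z * z' := by
    intro p hp hpp
    rcases hinv z' hz'P hz'2 with e | e | e | e
    · exact absurd e hz'1
    · exact absurd e hgz
    · rcases hinv p hp hpp with q | q | q | q <;> rw [q, e] <;> simp [h.zw]
    · have hzz' : z * z' = w := by rw [e, ← mul_assoc, h.zw, mul_assoc, h.z2, mul_one]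
      rcases hinv p hp hpp with q | q | q | q <;> rw [q, hzz', e] <;> simp
  have hx4 : x ^ 4 = 1 := by
    rw [show x ^ 4 = x * x * (x * x) by simp [pow_succ, mul_assoc]]; exact h4 x h.xP
  have hu4 : u ^ 4 = 1 := by
    rw [show u ^ 4 = u * u * (u * u) by simp [pow_succ, mul_assoc]]; exact h4 u huP
  let f : Multiplicative (ZMod (2 ^ 2) × ZMod (2 ^ 2)) →* ↥(S ⊓ A) :=
    { toFun := fun v => ⟨x ^ (Multiplicative.toAdd v).1.val * u ^ (Multiplicative.toAdd v).2.val,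
        mul_mem (pow_mem h.xP _) (pow_mem huP _)⟩
      map_one' := Subtype.ext (by simp)
      map_mul' := fun a b => Subtype.ext (by
        show x ^ (Multiplicative.toAdd (a * b)).1.val * u ^ (Multiplicative.toAdd (a * b)).2.val = _ * _ * (_ * _)
        rw [toAdd_mul, Prod.fst_add, Prod.snd_add, ZMod.val_add, ZMod.val_add]
        rw [← pow_eq_pow_mod _ (show x ^ 2 ^ 2 = 1 from hx4), ← pow_eq_pow_mod _ (show u ^ 2 ^ 2 = 1 from hu4),
          pow_add, pow_add]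
        have hc : Commute (x ^ (Multiplicative.toAdd b).1.val) (u ^ (Multiplicative.toAdd a).2.val) :=
          hab _ (pow_mem h.xP _) _ (pow_mem huP _)
        exact hc.mul_mul_mul_comm _ _) }
  have hsq : ∀ a b : ℕ, (x ^ a * u ^ b) * (x ^ a * u ^ b) = z ^ a * z' ^ b := fun a b => by
    have hc : Commute x u := hab x h.xP u huP
    rw [(hc.symm.pow_pow b a).mul_mul_mul_comm, ← pow_add, ← pow_add, ← two_mul, ← two_mul, pow_mul, pow_mul,
      pow_two, pow_two, h.xz, huu]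
  have hpar : ∀ a b : ℕ, z ^ a * z' ^ b = 1 → Even a ∧ Even b := by
    intro a b hab'
    have hz2 : ∀ k : ℕ, z ^ (2 * k) = 1 := fun k => by rw [pow_mul, pow_two, h.z2, one_pow]
    have hz'2' : ∀ k : ℕ, z' ^ (2 * k) = 1 := fun k => by rw [pow_mul, pow_two, hz'2, one_pow]
    rcases Nat.even_or_odd a with ⟨k, rfl⟩ | ⟨k, rfl⟩ <;> rcases Nat.even_or_odd b with ⟨l, rfl⟩ | ⟨l, rfl⟩ <;>
      simp only [← two_mul, pow_add, hz2, hz'2', pow_one, one_mul, mul_one] at hab' ⊢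
    · exact ⟨⟨k, by omega⟩, ⟨l, by omega⟩⟩
    · exact absurd hab' hz'1
    · exact absurd hab' h.z1
    · exact absurd (eq_inv_of_mul_eq_one_right hab' |>.trans (inv_eq_of_mul_eq_one_right h.z2)) hgz
  have hinj : Function.Injective f := by
    rw [injective_iff_map_eq_one]
    intro v hv
    have hv' : x ^ (Multiplicative.toAdd v).1.val * u ^ (Multiplicative.toAdd v).2.val = 1 := congrArg Subtype.val hv
    have h1 := hsq (Multiplicative.toAdd v).1.val (Multiplicative.toAdd v).2.val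
    rw [hv', one_mul] at h1
    obtain ⟨⟨a, ha⟩, ⟨b, hb⟩⟩ := hpar _ _ h1.symm
    rw [ha, hb, ← two_mul, ← two_mul, pow_mul, pow_mul, pow_two, pow_two, h.xz, huu] at hv'
    obtain ⟨⟨a', ha'⟩, ⟨b', hb'⟩⟩ := hpar _ _ hv'
    have hA := ZMod.val_lt (Multiplicative.toAdd v).1
    have hB := ZMod.val_lt (Multiplicative.toAdd v).2
    have e1 : (Multiplicative.toAdd v).1 = 0 := by rw [← ZMod.val_eq_zero]; norm_num at hA; omega
    have e2 : (Multiplicative.toAdd v).2 = 0 := by rw [← ZMod.val_eq_zero]; norm_num at hB; omega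
    exact Multiplicative.toAdd.injective (Prod.ext e1 e2)
  have hfval : ∀ a b : ℕ, ∀ e : G, e = x ^ a * u ^ b → ∀ he : e ∈ S ⊓ A, ∃ v, f v = ⟨e, he⟩ := by
    intro a b e hea he
    refine ⟨Multiplicative.ofAdd ((a : ZMod (2 ^ 2)), (b : ZMod (2 ^ 2))), Subtype.ext ?_⟩
    show x ^ ((a : ZMod (2 ^ 2))).val * u ^ ((b : ZMod (2 ^ 2))).val = e
    rw [ZMod.val_natCast, ZMod.val_natCast, ← pow_eq_pow_mod _ (show x ^ 2 ^ 2 = 1 from hx4),
      ← pow_eq_pow_mod _ (show u ^ 2 ^ 2 = 1 from hu4), hea]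
  have hsurj : Function.Surjective f := by
    rintro ⟨p, hp⟩
    have hpp : p * p ∈ S ⊓ A := mul_mem hp hp
    obtain ⟨a, b, hab'⟩ : ∃ a b : ℕ, p * p = z ^ a * z' ^ b := by
      rcases hpq _ hpp (h4 p hp) with e | e | e | e
      exacts [⟨0, 0, by simp [e]⟩, ⟨1, 0, by simp [e]⟩, ⟨0, 1, by simp [e]⟩, ⟨1, 1, by simp [e]⟩]
    have hm : x ^ a * u ^ b ∈ S ⊓ A := mul_mem (pow_mem h.xP _) (pow_mem huP _)
    have hq : p * (x ^ a * u ^ b) * (p * (x ^ a * u ^ b)) = 1 := by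
      have hc : Commute p (x ^ a * u ^ b) := hab p hp _ hm
      rw [hc.symm.mul_mul_mul_comm, hsq, ← hab']; exact h4 p hp
    obtain ⟨a', b', hab''⟩ : ∃ a' b' : ℕ, p * (x ^ a * u ^ b) = x ^ (2 * a') * u ^ (2 * b') := by
      have hx2 : ∀ k : ℕ, x ^ (2 * k) = z ^ k := fun k => by rw [pow_mul, pow_two, h.xz]
      have hu2 : ∀ k : ℕ, u ^ (2 * k) = z' ^ k := fun k => by rw [pow_mul, pow_two, huu]
      rcases hpq _ (mul_mem hp hm) hq with e | e | e | e
      exacts [⟨0, 0, by simp [e]⟩, ⟨1, 0, by rw [e, hx2, hu2, pow_one, pow_zero, mul_one]⟩,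
        ⟨0, 1, by rw [e, hx2, hu2, pow_one, pow_zero, one_mul]⟩, ⟨1, 1, by rw [e, hx2, hu2, pow_one, pow_one]⟩]
    refine hfval (2 * a' + 3 * a) (2 * b' + 3 * b) p ?_ hp
    have hc : Commute (x ^ (3 * a)) (u ^ (2 * b')) := hab _ (pow_mem h.xP _) _ (pow_mem huP _)
    have hc2 : Commute (x ^ (3 * a)) (u ^ b) := hab _ (pow_mem h.xP _) _ (pow_mem huP _)
    rw [pow_add, pow_add, hc.mul_mul_mul_comm, ← hab'', mul_assoc p, hc2.symm.mul_mul_mul_comm, ← pow_add,
      ← pow_add, show a + 3 * a = 4 * a by ring, show b + 3 * b = 4 * b by ring, pow_mul, pow_mul, hx4, hu4,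
      one_pow, one_pow, one_mul, mul_one]
  -- the quotient by the core
  have hperf : commutator A = ⊤ := Subgroup.map_injective A.subtype_injective (by
    rw [← MonoidHom.range_eq_map, Subgroup.range_subtype, commutator_def, Subgroup.map_commutator,
      ← MonoidHom.range_eq_map, Subgroup.range_subtype, h.perfect])
  haveI hOn : (Cfsg.oddCore ↥A).Normal := Transfer.pPrimeCore_normal 2 ↥A
  let π := QuotientGroup.mk' (Cfsg.oddCore ↥A)
  let PA : Subgroup A := (S ⊓ A).subgroupOf A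
  have hPA : IsPGroup 2 PA := h.toCfg.Pp.of_equiv (Subgroup.subgroupOfEquivOfLe inf_le_right).symm
  have hinjπ : Function.Injective (π.comp PA.subtype) := by
    rw [injective_iff_map_eq_one]
    intro a ha
    have ha' : (a : A) ∈ Cfsg.oddCore ↥A := (QuotientGroup.eq_one_iff _).mp ha
    exact Subtype.ext (PSolvable.eq_one_of_mem_of_mem hPA (Transfer.pPrimeCore_coprime 2) a.2 ha')
  let Pb : Subgroup (A ⧸ Cfsg.oddCore ↥A) := PA.map π
  have hPb : IsPGroup 2 Pb := hPA.map π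
  have hodd : ¬ 2 ∣ Pb.index := fun hd => h.toCfg.Podd
    (dvd_trans hd (Subgroup.index_map_dvd _ (QuotientGroup.mk'_surjective _)))
  let Pq : Sylow 2 (A ⧸ Cfsg.oddCore ↥A) := hPb.toSylow hodd
  have hmem : ∀ b, b ∈ Pb ↔ b ∈ (π.comp PA.subtype).range := fun b => by
    rw [MonoidHom.range_comp, Subgroup.range_subtype]
  let e₁ : ↥PA ≃* ↥Pb := (MonoidHom.ofInjective hinjπ).trans (MulEquiv.subgroupCongr (SetLike.ext hmem).symm)
  let e₂ : Multiplicative (ZMod (2 ^ 2) × ZMod (2 ^ 2)) ≃* ↥(S ⊓ A) := MulEquiv.ofBijective f ⟨hinj, hsurj⟩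
  let e : (Pq : Subgroup (A ⧸ Cfsg.oddCore ↥A)) ≃* Multiplicative (ZMod (2 ^ 2) × ZMod (2 ^ 2)) :=
    (e₁.symm.trans (Subgroup.subgroupOfEquivOfLe inf_le_right)).trans e₂.symm
  have hO : ∀ N : Subgroup (A ⧸ Cfsg.oddCore ↥A), N.Normal → Odd (Nat.card N) → N = ⊥ := fun N hN hodd' => by
    rw [← le_bot_iff, ← Invol.oddCore_quotient_eq_bot (G := ↥A)]
    exact Transfer.le_pPrimeCore hN (Nat.coprime_two_right.mpr hodd')
  obtain ⟨hn, -, hi⟩ := Cfsg.Agent.S0949.result Pq 2 le_rfl e hO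
  haveI := hn
  have hQ : commutator (A ⧸ Cfsg.oddCore ↥A) = ⊤ := by
    rw [commutator_def]
    have h1 := congrArg (Subgroup.map π) hperf
    rw [commutator_def, Subgroup.map_commutator, ← MonoidHom.range_eq_map,
      MonoidHom.range_eq_top.mpr (QuotientGroup.mk'_surjective _)] at h1
    exact h1
  -- the quotient by the normal Sylow subgroup is abelian
  haveI : IsCyclic ((A ⧸ Cfsg.oddCore ↥A) ⧸ (Pq : Subgroup (A ⧸ Cfsg.oddCore ↥A))) := by
    rcases hi with hi | hi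
    · haveI : Subsingleton ((A ⧸ Cfsg.oddCore ↥A) ⧸ (Pq : Subgroup (A ⧸ Cfsg.oddCore ↥A))) :=
        (Nat.card_eq_one_iff_unique.mp hi).1
      infer_instance
    · haveI : Fact (Nat.Prime 3) := ⟨Nat.prime_three⟩
      exact isCyclic_of_prime_card (p := 3) hi
  letI := (inferInstance : IsCyclic ((A ⧸ Cfsg.oddCore ↥A) ⧸ (Pq : Subgroup (A ⧸ Cfsg.oddCore ↥A)))).commGroup
  have htop : (Pq : Subgroup (A ⧸ Cfsg.oddCore ↥A)) = ⊤ := by
    rw [eq_top_iff, ← hQ]
    intro b hb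
    exact (QuotientGroup.eq_one_iff b).mp
      (Abelianization.commutator_subset_ker (QuotientGroup.mk' (Pq : Subgroup (A ⧸ Cfsg.oddCore ↥A))) hb)
  have hcommQ : commutator (A ⧸ Cfsg.oddCore ↥A) = ⊥ := by
    rw [eq_bot_iff, commutator_def, Subgroup.commutator_le]
    intro a _ b _
    rw [Subgroup.mem_bot, commutatorElement_eq_one_iff_mul_comm]
    have ha : a ∈ (Pq : Subgroup (A ⧸ Cfsg.oddCore ↥A)) := htop ▸ Subgroup.mem_top a
    have hb : b ∈ (Pq : Subgroup (A ⧸ Cfsg.oddCore ↥A)) := htop ▸ Subgroup.mem_top b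
    exact congrArg Subtype.val (e.injective (by rw [map_mul, map_mul, mul_comm]) :
      (⟨a, ha⟩ * ⟨b, hb⟩ : (Pq : Subgroup (A ⧸ Cfsg.oddCore ↥A))) = ⟨b, hb⟩ * ⟨a, ha⟩)
  have hzπ : π ⟨z, h.zP.2⟩ = 1 := Subgroup.mem_bot.mp (hcommQ.symm.trans hQ ▸ Subgroup.mem_top _)
  exact h.z1 (congrArg (fun a : PA => ((a : A) : G))
    (hinjπ (a₁ := (⟨⟨z, h.zP.2⟩, h.zP⟩ : PA)) (a₂ := 1) (by rw [map_one]; exact hzπ)))

/-- The four-group is central. -/
theorem false_of_central (h : Four A S t x z w) (hcen : ∀ p ∈ S ⊓ A, p * w = w * p) : False := by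
  classical
  haveI : Fact (Nat.Prime 2) := ⟨Nat.prime_two⟩
  obtain ⟨e₀, he₀⟩ := h.commutator_cyclic hcen
  by_cases hmove : ∃ g ∈ A, (∀ p ∈ S ⊓ A, g⁻¹ * p * g ∈ S ⊓ A) ∧ g⁻¹ * z * g ≠ z
  · obtain ⟨g, -, hgN, hgz⟩ := hmove
    have hab := h.commute_of_moves hgN hgz he₀
    exact h.false_of_homocyclic hab (h.pow_four_of_moves hcen hab hgN hgz) hgN hgz
  push Not at hmove
  have hPP : ⁅S ⊓ A, S ⊓ A⁆ = (commutator ↥(S ⊓ A)).map (S ⊓ A).subtype := by
    rw [commutator_def, Subgroup.map_commutator, ← MonoidHom.range_eq_map, Subgroup.range_subtype]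
  have hval : ∀ y, (hy : y ∈ S ⊓ A) → y * y = 1 → (∀ p ∈ S ⊓ A, p * y = y * p) →
      (∀ g ∈ A, (∀ p ∈ S ⊓ A, g⁻¹ * p * g ∈ S ⊓ A) → g⁻¹ * y * g = y) → y ∈ ⁅S ⊓ A, S ⊓ A⁆ := by
    intro y hy hyy hyc hfix
    have h1 := h.toCfg.value_A (Abelianization.of (G := ↥(S ⊓ A))) hy.2 hyy (S ⊓ A) h.toCfg.Pp inf_le_right hy hyc
      (Abelianization.of (⟨y, hy⟩ : ↥(S ⊓ A))) fun g hg hsub hp => by simp only [hfix g hg hsub]
    rw [hPP]
    exact Subgroup.mem_map_of_mem (S ⊓ A).subtype ((QuotientGroup.eq_one_iff (⟨y, hy⟩ : ↥(S ⊓ A))).mp h1)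
  have hfixw : ∀ g ∈ A, (∀ p ∈ S ⊓ A, g⁻¹ * p * g ∈ S ⊓ A) → g⁻¹ * w * g = w := by
    intro g hg hsub
    have hgz : g⁻¹ * z * g = z := hmove g hg hsub
    have hww : g⁻¹ * w * g * (g⁻¹ * w * g) = 1 := by
      rw [show g⁻¹ * w * g * (g⁻¹ * w * g) = g⁻¹ * (w * w) * g by group, h.w2, mul_one, inv_mul_cancel]
    have hne : ∀ y, w ≠ y → g⁻¹ * w * g ≠ g⁻¹ * y * g := fun y hy e => hy (mul_left_cancel (mul_right_cancel e))
    let cP : Subgroup G := (S ⊓ A).map (MulAut.conj g⁻¹).toMonoidHom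
    have hsub' : cP ≤ S ⊓ A := by
      rintro a ha
      obtain ⟨p, hp, rfl⟩ := Subgroup.mem_map.mp ha
      simpa using hsub p hp
    have heq : cP = S ⊓ A := Subgroup.eq_of_le_of_card_ge hsub'
      (le_of_eq (Subgroup.card_map_of_injective (MulAut.conj g⁻¹).injective).symm)
    have hW : InW z w (g⁻¹ * w * g) := h.central_invol (hsub w h.wP) hww fun p hp => by
      obtain ⟨q, hq, rfl⟩ := Subgroup.mem_map.mp (heq.symm ▸ hp : p ∈ cP)
      simp only [MulEquiv.coe_toMonoidHom, MulAut.conj_apply, inv_inv]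
      rw [show g⁻¹ * w * g * (g⁻¹ * q * g) = g⁻¹ * (w * q) * g by group, ← hcen q hq]
      group
    rcases hW with e | e | e | e
    · exact absurd (e.trans (by group : (1 : G) = g⁻¹ * 1 * g)) (hne 1 h.w1)
    · exact absurd (e.trans hgz.symm) (hne z h.wz)
    · exact e
    exfalso
    -- an odd power of `g` would lie in `P`
    obtain ⟨a, m, hm, hgm⟩ := Nat.exists_eq_pow_mul_and_not_dvd (orderOf_pos g).ne' 2 (by norm_num)
    set k := g ^ m with hk
    have hk2 : IsPGroup 2 (Subgroup.zpowers k) := IsPGroup.iff_card.mpr ⟨a, by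
      rw [Nat.card_zpowers, hk, orderOf_pow' g (fun h0 => hm (by rw [h0]; exact dvd_zero 2)), hgm,
        Nat.gcd_eq_right (dvd_mul_left m _),
        Nat.mul_div_cancel _ (Nat.pos_of_ne_zero fun h0 => hm (by rw [h0]; exact dvd_zero 2))]⟩
    have hstep : ∀ n : ℕ, (∀ p ∈ S ⊓ A, (g ^ n)⁻¹ * p * g ^ n ∈ S ⊓ A) ∧
        (g ^ n)⁻¹ * w * g ^ n = if Even n then w else w * z := by
      intro n
      induction n with
      | zero => exact ⟨fun p hp => by simpa using hp, by simp⟩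
      | succ n ih =>
        refine ⟨fun p hp => ?_, ?_⟩
        · rw [show (g ^ (n + 1))⁻¹ * p * g ^ (n + 1) = g⁻¹ * ((g ^ n)⁻¹ * p * g ^ n) * g by rw [pow_succ]; group]
          exact hsub _ (ih.1 p hp)
        · rw [show (g ^ (n + 1))⁻¹ * w * g ^ (n + 1) = g⁻¹ * ((g ^ n)⁻¹ * w * g ^ n) * g by rw [pow_succ]; group,
            ih.2]
          by_cases hn : Even n
          · rw [if_pos hn, if_neg (by simpa [Nat.even_add_one] using hn)]; exact e
          · rw [if_neg hn, if_pos (by simpa [Nat.even_add_one] using hn),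
              show g⁻¹ * (w * z) * g = g⁻¹ * w * g * (g⁻¹ * z * g) by group, e, hgz, mul_assoc, h.z2, mul_one]
    have hnorm : Subgroup.zpowers k ≤ Subgroup.normalizer ((S ⊓ A : Subgroup G) : Set G) := by
      rw [Subgroup.zpowers_le]
      have hkinv : ∀ p ∈ S ⊓ A, k⁻¹ * p * k ∈ S ⊓ A := (hstep m).1
      have hle : (S ⊓ A).map (MulAut.conj k⁻¹).toMonoidHom ≤ S ⊓ A := by
        rintro b hb
        obtain ⟨p, hp, rfl⟩ := Subgroup.mem_map.mp hb
        simpa using hkinv p hp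
      have heq' : (S ⊓ A).map (MulAut.conj k⁻¹).toMonoidHom = S ⊓ A := Subgroup.eq_of_le_of_card_ge hle
        (le_of_eq (Subgroup.card_map_of_injective (MulAut.conj k⁻¹).injective).symm)
      rw [Subgroup.mem_normalizer_iff]
      intro b
      refine ⟨fun hb => ?_, fun hb => ?_⟩
      · obtain ⟨p, hp, rfl⟩ := Subgroup.mem_map.mp (heq'.symm ▸ hb : b ∈ (S ⊓ A).map (MulAut.conj k⁻¹).toMonoidHom)
        simp only [MulEquiv.coe_toMonoidHom, MulAut.conj_apply, inv_inv]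
        rwa [show k * (k⁻¹ * p * k) * k⁻¹ = p by group]
      · have := hkinv _ hb
        rwa [show k⁻¹ * (k * b * k⁻¹) * k = b by group] at this
    let T : Subgroup G := (S ⊓ A) ⊔ Subgroup.zpowers k
    have hT : IsPGroup 2 T := h.toCfg.Pp.to_sup_of_normal_left' hk2 hnorm
    have hTA : T ≤ A := sup_le inf_le_right (Subgroup.zpowers_le.mpr (pow_mem hg m))
    obtain ⟨c, -, hc⟩ := FourRankOne.conj_into A (S ⊓ A) h.toCfg.Pp h.toCfg.Podd A inf_le_right le_rfl T hT hTA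
    have hle : Nat.card T ≤ Nat.card ↥(S ⊓ A) :=
      Nat.card_le_card_of_injective (fun v => (⟨_, hc v v.2⟩ : ↥(S ⊓ A))) fun u v huv => by
        have := congrArg Subtype.val huv
        simp only [mul_left_inj, mul_right_inj] at this
        exact Subtype.ext this
    have hkP : k ∈ S ⊓ A :=
      (Subgroup.eq_of_le_of_card_ge (le_sup_left : S ⊓ A ≤ T) hle) ▸ Subgroup.mem_sup_right (Subgroup.mem_zpowers k)
    have h2 := (hstep m).2
    rw [if_neg (fun hev => hm hev.two_dvd), show (g ^ m)⁻¹ * w * g ^ m = k⁻¹ * w * k from rfl, mul_assoc k⁻¹,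
      ← hcen k hkP, inv_mul_cancel_left] at h2
    exact h.z1 (mul_eq_left.mp h2.symm)
  have hwd := hval w h.wP h.w2 hcen hfixw
  have hzd := hval z h.zP h.z2 (fun p hp => h.zc p hp.1) hmove
  exact h.wz (invol_zpowers (he₀ hwd) (he₀ hzd) h.w2 h.z2 h.w1 h.z1)

end Four

end CfsgLib.FixedFour
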