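import Cfsg.Agent.Lib.FixedFour.Basic

/-!
# An invariant four-group moved by the Sylow subgroup
-/

set_option autoImplicit false
set_option linter.unusedSectionVars false
set_option linter.style.haveILetI false

namespace CfsgLib.FixedFour

open CfsgLib.FourRankOne

variable {G : Type*} [Group G] [Finite G]
variable {A S : Subgroup G} {t x z w : G}

/-- A four-group `{1, z, w, w z}` in `P = S ⊓ A` normalized by `S`. -/
structure Four (A S : Subgroup G) (t x z w : G) : Prop extends Cfg A S t x z where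
  wP : w ∈ S ⊓ A
  w2 : w * w = 1
  w1 : w ≠ 1
  wz : w ≠ z
  wc : ∀ s ∈ S, s * w * s⁻¹ = w ∨ s * w * s⁻¹ = w * z

/-- Membership in the four-group. -/
def InW (z w : G) (e : G) : Prop := e = 1 ∨ e = z ∨ e = w ∨ e = w * z

namespace Four

theorem zw (h : Four A S t x z w) : z * w = w * z := (h.zc w h.wP.1).symm

theorem twt (h : Four A S t x z w) : t * w * t⁻¹ = w * z := by
  refine (h.wc t h.tS).resolve_left fun e => ?_
  exact (h.fixed_invol h.wP h.w2 (mul_inv_eq_iff_eq_mul.mp e)).elim h.w1 h.wz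

theorem wz2 (h : Four A S t x z w) : w * z * (w * z) = 1 := by
  rw [mul_assoc, ← mul_assoc z, h.zw, mul_assoc w z, h.z2, mul_one, h.w2]

theorem InW_mem (h : Four A S t x z w) {e : G} (he : InW z w e) : e ∈ S ⊓ A := by
  rcases he with hq_e | hq_e | hq_e | hq_e <;> subst e
  exacts [one_mem _, h.zP, h.wP, mul_mem h.wP h.zP]

theorem InW_sq (h : Four A S t x z w) {e : G} (he : InW z w e) : e * e = 1 := by
  rcases he with hq_e | hq_e | hq_e | hq_e <;> subst e
  exacts [one_mul 1, h.z2, h.w2, h.wz2]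

theorem InW_mul (h : Four A S t x z w) {e f : G} (he : InW z w e) (hf : InW z w f) : InW z w (e * f) := by
  rcases he with hq_e | hq_e | hq_e | hq_e <;> subst e <;> rcases hf with hq_f | hq_f | hq_f | hq_f <;> subst f <;>
    simp [InW, h.z2, h.w2, h.wz2, h.zw, mul_assoc, ← mul_assoc z, ← mul_assoc w w]

theorem InW_comm (h : Four A S t x z w) {p : G} (hp : p ∈ S ⊓ A) (hpw : p * w = w * p) {e : G} (he : InW z w e) :
    p * e = e * p := by
  rcases he with hq_e | hq_e | hq_e | hq_e <;> subst e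
  · rw [mul_one, one_mul]
  · exact h.zc p hp.1
  · exact hpw
  · exact ((show Commute p w from hpw).mul_right (h.zc p hp.1)).eq

/-- Elements of `S` moving `w`. -/
theorem moves (h : Four A S t x z w) {s : G} (hs : s ∈ S) (hn : s * w ≠ w * s) : s * w * s⁻¹ = w * z :=
  (h.wc s hs).resolve_left fun e => hn (mul_inv_eq_iff_eq_mul.mp e)

theorem comm_mul_of_not (h : Four A S t x z w) {p q : G} (hp : p ∈ S ⊓ A) (hq : q ∈ S ⊓ A)
    (hp' : p * w ≠ w * p) (hq' : q * w ≠ w * q) : p * q * w = w * (p * q) := by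
  refine mul_inv_eq_iff_eq_mul.mp ?_
  rw [show p * q * w * (p * q)⁻¹ = p * (q * w * q⁻¹) * p⁻¹ by group, h.moves hq.1 hq', ← conj_mul,
    h.moves hp.1 hp', h.zc p hp.1, mul_inv_cancel_right, mul_assoc, h.z2, mul_one]

/-- The centralizer of `w` in `P`. -/
def P0 (_h : Four A S t x z w) : Subgroup G := (S ⊓ A) ⊓ Subgroup.centralizer ({w} : Set G)

theorem mem_P0 (h : Four A S t x z w) {p : G} : p ∈ h.P0 ↔ p ∈ S ⊓ A ∧ p * w = w * p := by
  rw [P0, Subgroup.mem_inf, Subgroup.mem_centralizer_singleton_iff]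

theorem P0_le (h : Four A S t x z w) : h.P0 ≤ S ⊓ A := inf_le_left

theorem InW_P0 (h : Four A S t x z w) {e : G} (he : InW z w e) : e ∈ h.P0 := by
  refine h.mem_P0.mpr ⟨h.InW_mem he, ?_⟩
  rcases he with hq_e | hq_e | hq_e | hq_e <;> subst e
  · rw [one_mul, mul_one]
  · exact h.zw
  · rfl
  · rw [mul_assoc, h.zw]

theorem conj_P0 (h : Four A S t x z w) {s p : G} (hs : s ∈ S) (hp : p ∈ h.P0) : s * p * s⁻¹ ∈ h.P0 := by
  obtain ⟨hpP, hpw⟩ := h.mem_P0.mp hp
  refine h.mem_P0.mpr ⟨h.conj_mem hs hpP, ?_⟩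
  rcases h.wc s⁻¹ (inv_mem hs) with e | e <;> rw [inv_inv] at e
  · calc s * p * s⁻¹ * w = s * (p * (s⁻¹ * w * s)) * s⁻¹ := by group
      _ = s * (p * w) * s⁻¹ := by rw [e]
      _ = s * (w * p) * s⁻¹ := by rw [hpw]
      _ = s * ((s⁻¹ * w * s) * p) * s⁻¹ := by rw [e]
      _ = _ := by group
  · calc s * p * s⁻¹ * w = s * (p * (s⁻¹ * w * s)) * s⁻¹ := by group
      _ = s * (p * (w * z)) * s⁻¹ := by rw [e]
      _ = s * ((w * z) * p) * s⁻¹ := by rw [h.InW_comm hpP hpw (Or.inr (Or.inr (Or.inr rfl)))]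
      _ = s * ((s⁻¹ * w * s) * p) * s⁻¹ := by rw [e]
      _ = _ := by group

theorem relIndex_P0 (h : Four A S t x z w) {g : G} (hg : g ∈ S ⊓ A) (hgw : g * w ≠ w * g) :
    h.P0.relIndex (S ⊓ A) = 2 :=
  Subgroup.relIndex_eq_two_iff_exists_notMem_and.mpr ⟨g, hg, fun hc => hgw (h.mem_P0.mp hc).2, fun b hb => by
    by_cases hbw : b * w = w * b
    · exact Or.inr (h.mem_P0.mpr ⟨hb, hbw⟩)
    · exact Or.inl (h.mem_P0.mpr ⟨mul_mem hb hg, h.comm_mul_of_not hb hg hbw hgw⟩)⟩

theorem card_P (h : Four A S t x z w) {g : G} (hg : g ∈ S ⊓ A) (hgw : g * w ≠ w * g) :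
    Nat.card ↥(S ⊓ A) = 2 * Nat.card h.P0 := by
  have := Subgroup.relIndex_mul_relIndex ⊥ h.P0 (S ⊓ A) bot_le h.P0_le
  rw [Subgroup.relIndex_bot_left, Subgroup.relIndex_bot_left, h.relIndex_P0 hg hgw] at this
  omega

theorem f_mem (h : Four A S t x z w) {p : G} (hp : p ∈ S ⊓ A) : p⁻¹ * (t * p * t⁻¹) ∈ h.P0 := by
  by_cases hpw : p * w = w * p
  · exact mul_mem (inv_mem (h.mem_P0.mpr ⟨hp, hpw⟩)) (h.conj_P0 h.tS (h.mem_P0.mpr ⟨hp, hpw⟩))
  · have hq : ¬ (t * p * t⁻¹) * w = w * (t * p * t⁻¹) := fun hc => hpw (by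
      have := h.conj_P0 (inv_mem h.tS) (h.mem_P0.mpr ⟨h.conj_mem h.tS hp, hc⟩)
      rw [inv_inv, show t⁻¹ * (t * p * t⁻¹) * t = p by group] at this
      exact (h.mem_P0.mp this).2)
    have hp' : ¬ p⁻¹ * w = w * p⁻¹ := fun hc => hpw (by
      have := (show Commute p⁻¹ w from hc).inv_left.eq
      rwa [inv_inv] at this)
    exact h.mem_P0.mpr ⟨mul_mem (inv_mem hp) (h.conj_mem h.tS hp),
      h.comm_mul_of_not (inv_mem hp) (h.conj_mem h.tS hp) hp' hq⟩

theorem f_inv (h : Four A S t x z w) (p : G) :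
    t * (p⁻¹ * (t * p * t⁻¹)) * t⁻¹ = (p⁻¹ * (t * p * t⁻¹))⁻¹ := by
  rw [inv_eq_of_mul_eq_one_right h.t2]
  calc t * (p⁻¹ * (t * p * t)) * t = t * p⁻¹ * t * p * (t * t) := by group
    _ = t * p⁻¹ * t * p := by rw [h.t2, mul_one]
    _ = _ := by
      rw [mul_inv_rev, mul_inv_rev, mul_inv_rev, inv_inv, inv_eq_of_mul_eq_one_right h.t2]
      simp only [mul_assoc]

/-- When `P` moves `w`, every element of `P0` is inverted by `t` modulo the four-group. -/
theorem cover_P0 (h : Four A S t x z w) {g : G} (hg : g ∈ S ⊓ A) (hgw : g * w ≠ w * g) {y : G} (hy : y ∈ h.P0) :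
    ∃ e, InW z w e ∧ t * (y * e) * t⁻¹ = (y * e)⁻¹ := by
  classical
  let W : Subgroup h.P0 :=
    { carrier := {e | InW z w (e : G)}
      one_mem' := Or.inl rfl
      mul_mem' := fun {a b} ha hb => h.InW_mul ha hb
      inv_mem' := fun {a} ha => by
        show InW z w ((a : G)⁻¹)
        rw [inv_eq_of_mul_eq_one_right (h.InW_sq ha)]
        exact ha }
  haveI : Fintype (h.P0 ⧸ W) := Fintype.ofFinite _
  haveI : Fintype ↥(S ⊓ A) := Fintype.ofFinite _
  let F : ↥(S ⊓ A) → h.P0 ⧸ W := fun p => ((⟨_, h.f_mem p.2⟩ : h.P0) : h.P0 ⧸ W)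
  -- each fibre has at most eight elements
  have hfib : ∀ c ∈ (Finset.univ.image F), (Finset.univ.filter fun p => F p = c).card ≤ 8 := by
    intro c hc
    obtain ⟨p, -, rfl⟩ := Finset.mem_image.mp hc
    let cand : Finset G := ({1, z, x, x * z} : Finset G).image (fun b => b * (p : G)) ∪
      ({1, z, x, x * z} : Finset G).image (fun b => b * ((p : G) * w))
    have hsub : (Finset.univ.filter fun q => F q = F p).image (fun q : ↥(S ⊓ A) => (q : G)) ⊆ cand := by
      intro a ha
      obtain ⟨q, hq, rfl⟩ := Finset.mem_image.mp ha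
      have hq' : InW z w ((((p : G))⁻¹ * (t * p * t⁻¹))⁻¹ * ((q : G)⁻¹ * (t * q * t⁻¹))) :=
        QuotientGroup.eq.mp (Finset.mem_filter.mp hq).2.symm
      set u := (p : G)⁻¹ * (t * p * t⁻¹) with hu
      have hu0 : u ∈ h.P0 := h.f_mem p.2
      obtain ⟨huP, huw⟩ := h.mem_P0.mp hu0
      clear_value u
      generalize hedef : u⁻¹ * ((q : G)⁻¹ * (t * q * t⁻¹)) = e at hq'
      have hfq : (q : G)⁻¹ * (t * q * t⁻¹) = u * e := by rw [← hedef, mul_inv_cancel_left]
      have hcomm : ∀ r : G, InW z w r → u * r = r * u := fun r hr => h.InW_comm huP huw hr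
      have hfix : t * e * t⁻¹ = e := by
        have h1 := h.f_inv q
        have hui : t * u * t⁻¹ = u⁻¹ := by rw [hu]; exact h.f_inv p
        rw [hfq, ← conj_mul, hui, mul_inv_rev, inv_eq_of_mul_eq_one_right (h.InW_sq hq'),
          ← (show Commute u e from hcomm e hq').inv_left.eq] at h1
        exact mul_left_cancel h1
      have key : ∀ b : G, b ∈ S ⊓ A → b⁻¹ * (t * b * t⁻¹) = (q : G)⁻¹ * (t * q * t⁻¹) →
          ∃ c ∈ ({1, z, x, x * z} : Finset G), (q : G) = c * b := by
        intro b hb hbq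
        refine ⟨(q : G) * b⁻¹, ?_, by rw [inv_mul_cancel_right]⟩
        have : t * ((q : G) * b⁻¹) = (q : G) * b⁻¹ * t := by
          refine mul_inv_eq_iff_eq_mul.mp ?_
          calc t * ((q : G) * b⁻¹) * t⁻¹ = q * ((q : G)⁻¹ * (t * q * t⁻¹)) * (b⁻¹ * (t * b * t⁻¹))⁻¹ * b⁻¹ := by
                group
            _ = q * b⁻¹ := by rw [hbq, mul_inv_cancel_right]
        rcases h.fixed (mul_mem q.2 (inv_mem hb)) this with e' | e' | e' | e' <;> simp [e']
      rcases hq' with hq_e | hq_e | hq_e | hq_e <;> rw [hq_e] at hfq hfix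
      · obtain ⟨c, hc, hqc⟩ := key p p.2 (by rw [hfq, mul_one, hu])
        exact Finset.mem_union_left _ (Finset.mem_image.mpr ⟨c, hc, hqc.symm⟩)
      · obtain ⟨c, hc, hqc⟩ := key ((p : G) * w) (mul_mem p.2 h.wP) (by
          rw [hfq]
          calc ((p : G) * w)⁻¹ * (t * ((p : G) * w) * t⁻¹) = w⁻¹ * u * (t * w * t⁻¹) := by rw [hu]; group
            _ = w⁻¹ * (u * w) * z := by rw [h.twt]; group
            _ = _ := by rw [huw, inv_mul_cancel_left])
        exact Finset.mem_union_right _ (Finset.mem_image.mpr ⟨c, hc, hqc.symm⟩)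
      · exact absurd (mul_eq_left.mp (h.twt.symm.trans hfix)) h.z1
      · rw [← conj_mul, h.twt, h.tz, mul_inv_cancel_right, mul_assoc, h.z2, mul_one] at hfix
        exact absurd (left_eq_mul.mp hfix) h.z1
    have h8 : cand.card ≤ 8 := (Finset.card_union_le _ _).trans
      (Nat.add_le_add (Finset.card_image_le.trans Finset.card_le_four) (Finset.card_image_le.trans Finset.card_le_four))
    have := (Finset.card_le_card hsub).trans h8
    rwa [Finset.card_image_of_injective _ Subtype.val_injective] at this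
  have hle := Finset.card_le_mul_card_image Finset.univ 8 hfib
  rw [Finset.card_univ, Fintype.card_eq_nat_card, h.card_P hg hgw,
    Subgroup.card_eq_card_quotient_mul_card_subgroup W] at hle
  have hW4 : 4 ≤ Nat.card W := by
    haveI : Fintype W := Fintype.ofFinite _
    let l : List W := [⟨⟨1, one_mem _⟩, Or.inl rfl⟩, ⟨⟨z, h.InW_P0 (Or.inr (Or.inl rfl))⟩, Or.inr (Or.inl rfl)⟩,
      ⟨⟨w, h.InW_P0 (Or.inr (Or.inr (Or.inl rfl)))⟩, Or.inr (Or.inr (Or.inl rfl))⟩,
      ⟨⟨w * z, h.InW_P0 (Or.inr (Or.inr (Or.inr rfl)))⟩, Or.inr (Or.inr (Or.inr rfl))⟩]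
    have hwz' : w * z ≠ 1 := fun e => h.wz (by
      rw [← inv_eq_of_mul_eq_one_right h.z2, eq_inv_of_mul_eq_one_left e])
    have hl : l.Nodup := by
      simp [l, List.nodup_cons, Subtype.ext_iff, h.z1.symm, h.w1.symm, hwz'.symm, h.wz.symm, h.z1, h.w1]
    have := hl.length_le_card
    rw [Fintype.card_eq_nat_card] at this
    simpa [l] using this
  have hsurj : (Finset.univ.image F) = Finset.univ := by
    refine Finset.eq_univ_of_card _ (le_antisymm (Finset.card_le_univ _) ?_)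
    rw [Fintype.card_eq_nat_card]
    have : 8 * Nat.card (h.P0 ⧸ W) ≤ 2 * (Nat.card (h.P0 ⧸ W) * Nat.card W) := by nlinarith
    omega
  obtain ⟨p, -, hp⟩ := Finset.mem_image.mp (hsurj ▸ Finset.mem_univ ((⟨y, hy⟩ : h.P0) : h.P0 ⧸ W))
  have he : InW z w (y⁻¹ * ((p : G)⁻¹ * (t * p * t⁻¹))) := QuotientGroup.eq.mp hp.symm
  exact ⟨_, he, by rw [mul_inv_cancel_left]; exact h.f_inv p⟩

/-- Elements of `P0` whose square lies in the four-group. -/
theorem roots (h : Four A S t x z w) {g : G} (hg : g ∈ S ⊓ A) (hgw : g * w ≠ w * g) {y : G} (hy : y ∈ h.P0)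
    (hyy : InW z w (y * y)) : InW z w y ∨ x ∈ h.P0 ∧ InW z w (x⁻¹ * y) := by
  obtain ⟨e, he, hv⟩ := h.cover_P0 hg hgw hy
  obtain ⟨hyP, hyw⟩ := h.mem_P0.mp hy
  have hye : y * e = e * y := h.InW_comm hyP hyw he
  have hee : e * e = 1 := h.InW_sq he
  have hy' : y = y * e * e := by rw [mul_assoc, hee, mul_one]
  have hsq : y * e * (y * e) = y * y := by
    rw [show y * e * (y * e) = y * (e * y) * e by group, ← hye, ← mul_assoc, mul_assoc (y * y), hee, mul_one]
  have hvP : y * e ∈ h.P0 := mul_mem hy (h.InW_P0 he)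
  generalize y * e = v at hv hy' hsq hvP
  rw [← hsq] at hyy
  have hinvt : t * (v * v) * t⁻¹ = v * v := by
    rw [← conj_mul, hv, ← mul_inv_rev]
    exact inv_eq_of_mul_eq_one_right (h.InW_sq hyy)
  rcases h.fixed_invol (h.InW_mem hyy) (h.InW_sq hyy) (mul_inv_eq_iff_eq_mul.mp hinvt) with h1 | h1
  · left
    rw [hy']
    refine h.InW_mul ?_ he
    have : t * v = v * t := mul_inv_eq_iff_eq_mul.mp (hv.trans (inv_eq_of_mul_eq_one_right h1))
    rcases h.fixed_invol (h.P0_le hvP) h1 this with e' | e'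
    · exact Or.inl e'
    · exact Or.inr (Or.inl e')
  · have hvinv : v⁻¹ = v * z := inv_eq_of_mul_eq_one_right (by rw [← mul_assoc, h1, h.z2])
    have hfix : t * (v * w) = v * w * t := by
      refine mul_inv_eq_iff_eq_mul.mp ?_
      rw [← conj_mul, hv, h.twt, hvinv, show v * z * (w * z) = v * (z * w) * z by group, h.zw, mul_assoc,
        mul_assoc w, h.z2, mul_one]
    have hvw : v = v * w * w := by rw [mul_assoc, h.w2, mul_one]
    have hW : InW z w w := Or.inr (Or.inr (Or.inl rfl))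
    have hmem : v * w ∈ h.P0 := mul_mem hvP (h.InW_P0 hW)
    rcases h.fixed (mul_mem (h.P0_le hvP) h.wP) hfix with e' | e' | e' | e'
    · left; rw [hy', hvw, e']; exact h.InW_mul (h.InW_mul (Or.inl rfl) hW) he
    · left; rw [hy', hvw, e']; exact h.InW_mul (h.InW_mul (Or.inr (Or.inl rfl)) hW) he
    · right
      refine ⟨e' ▸ hmem, ?_⟩
      rw [hy', hvw, e', mul_assoc, inv_mul_cancel_left]
      exact h.InW_mul hW he
    · right
      refine ⟨?_, ?_⟩
      · have := mul_mem hmem (h.InW_P0 (Or.inr (Or.inl rfl)))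
        rwa [e', mul_assoc, h.z2, mul_one] at this
      · rw [hy', hvw, e', mul_assoc (x * z), mul_assoc x, inv_mul_cancel_left]
        exact h.InW_mul (Or.inr (Or.inl rfl)) (h.InW_mul hW he)

theorem descend (h : Four A S t x z w) {g : G} (hg : g ∈ S ⊓ A) (hgw : g * w ≠ w * g) {y : G} (hy : y ∈ h.P0) :
    InW z w y ∨ x ∈ h.P0 ∧ ∃ j : ℕ, InW z w (x⁻¹ * y ^ 2 ^ j) := by
  obtain ⟨n, hn⟩ := h.toCfg.Pp ⟨y, h.P0_le hy⟩
  have hn' : InW z w (y ^ 2 ^ n) := Or.inl (congrArg Subtype.val hn)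
  clear hn
  induction n with
  | zero => left; simpa using hn'
  | succ n ih =>
    rw [pow_succ, pow_mul, pow_two] at hn'
    rcases h.roots hg hgw (pow_mem hy _) hn' with h1 | ⟨hx, h1⟩
    · exact ih h1
    · exact Or.inr ⟨hx, n, h1⟩

/-- The case where `x` moves `w`. -/
theorem false_of_moved (h : Four A S t x z w) (hxw : x * w ≠ w * x) : False := by
  have hxP := h.xP
  have hP0 : ∀ y ∈ h.P0, InW z w y := fun y hy =>
    (h.descend hxP hxw hy).resolve_right fun hc => hxw (h.mem_P0.mp hc.1).2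
  have hxwx : x * w * x⁻¹ = w * z := h.moves hxP.1 hxw
  have hx0 : ∀ b ∈ S ⊓ A, b * w ≠ w * b → ∃ e, InW z w e ∧ b = e * x := by
    intro b hb hbw
    have hxi : x⁻¹ * w ≠ w * x⁻¹ := fun hc => hxw (by
      have := (show Commute x⁻¹ w from hc).inv_left.eq
      rwa [inv_inv] at this)
    exact ⟨b * x⁻¹, hP0 _ (h.mem_P0.mpr ⟨mul_mem hb (inv_mem hxP),
      h.comm_mul_of_not hb (inv_mem hxP) hbw hxi⟩), by rw [inv_mul_cancel_right]⟩
  have hzm : z ∈ Subgroup.zpowers x := h.xz ▸ mul_mem (Subgroup.mem_zpowers x) (Subgroup.mem_zpowers x)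
  have htM : ∀ p ∈ Subgroup.zpowers x, t * p = p * t := fun p hp => by
    obtain ⟨i, rfl⟩ := Subgroup.mem_zpowers_iff.mp hp
    exact ((show Commute t x from h.tx).zpow_right i).eq
  have hMP : Subgroup.zpowers x ≤ S ⊓ A := Subgroup.zpowers_le.mpr hxP
  have hidx : (Subgroup.zpowers x).relIndex (S ⊓ A) = 2 := by
    refine Subgroup.relIndex_eq_two_iff_exists_notMem_and.mpr ⟨w, h.wP, fun hw => ?_, fun b hb => ?_⟩
    · exact (h.fixed_invol h.wP h.w2 (htM w hw)).elim h.w1 h.wz
    by_cases hbw : b * w = w * b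
    · rcases hP0 b (h.mem_P0.mpr ⟨hb, hbw⟩) with hq_b | hq_b | hq_b | hq_b <;> subst b
      · exact Or.inr (one_mem _)
      · exact Or.inr hzm
      · exact Or.inl (by rw [h.w2]; exact one_mem _)
      · refine Or.inl ?_
        rw [mul_assoc, h.zw, ← mul_assoc, h.w2, one_mul]
        exact hzm
    · obtain ⟨e, he, rfl⟩ := hx0 b hb hbw
      rcases he with hq_e | hq_e | hq_e | hq_e <;> subst e
      · exact Or.inr (by rw [one_mul]; exact Subgroup.mem_zpowers x)
      · exact Or.inr (mul_mem hzm (Subgroup.mem_zpowers x))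
      · refine Or.inl ?_
        rw [show w * x * w = w * (x * w * x⁻¹) * x by group, hxwx, ← mul_assoc, h.w2, one_mul]
        exact mul_mem hzm (Subgroup.mem_zpowers x)
      · refine Or.inl ?_
        rw [show w * z * x * w = w * z * (x * w * x⁻¹) * x by group, hxwx, h.wz2, one_mul]
        exact Subgroup.mem_zpowers x
  have hcent : ∀ p ∈ S ⊓ A, p * p = 1 → p ≠ 1 → p ≠ z → ∀ c ∈ S ⊓ A, c * p = p * c →
      c = 1 ∨ c = z ∨ c = p ∨ c = p * z := by
    intro p hp hpp h1 h2 c hc hcp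
    by_cases hpw : p * w = w * p
    · have hpW := hP0 p (h.mem_P0.mpr ⟨hp, hpw⟩)
      have hcw : c * w = w * c := by
        rcases hpW with hq_p | hq_p | hq_p | hq_p <;> subst p
        · exact absurd rfl h1
        · exact absurd rfl h2
        · exact hcp
        · have : Commute c (w * z * z) := (show Commute c (w * z) from hcp).mul_right (h.zc c hc.1)
          rwa [mul_assoc, h.z2, mul_one] at this
      rcases hP0 c (h.mem_P0.mpr ⟨hc, hcw⟩) with hq_c | hq_c | hq_c | hq_c <;> subst c <;> rcases hpW with hq_p | hq_p | hq_p | hq_p <;> subst p <;>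
        first | exact absurd rfl h1 | exact absurd rfl h2 | exact Or.inl rfl | exact Or.inr (Or.inl rfl) | exact Or.inr (Or.inr (Or.inl rfl)) | exact Or.inr (Or.inr (Or.inr rfl)) | exact Or.inr (Or.inr (Or.inr (by rw [mul_assoc, h.z2, mul_one])))
    · have key : ∀ d ∈ S ⊓ A, d * p = p * d → d * w = w * d → d = 1 ∨ d = z := by
        intro d hd hdp hdw
        have hne : ∀ e : G, e = w ∨ e = w * z → d = e → False := fun e he hde => hpw (by
          rcases he with hq_e | hq_e <;> rw [hq_e] at hde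
          · rw [← hde]; exact hdp.symm
          · have : Commute p (d * z) := (show Commute p d from hdp.symm).mul_right (h.zc p hp.1)
            rwa [hde, mul_assoc, h.z2, mul_one] at this)
        rcases hP0 d (h.mem_P0.mpr ⟨hd, hdw⟩) with e | e | e | e
        exacts [Or.inl e, Or.inr e, (hne w (Or.inl rfl) e).elim, (hne _ (Or.inr rfl) e).elim]
      by_cases hcw : c * w = w * c
      · exact (key c hc hcp hcw).imp_right Or.inl
      · have hpinv : p⁻¹ = p := inv_eq_of_mul_eq_one_right hpp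
        rcases key (c * p) (mul_mem hc hp) (by rw [mul_assoc, hpp, mul_one, ← mul_assoc, ← hcp, mul_assoc, hpp,
          mul_one]) (h.comm_mul_of_not hc hp hcw hpw) with e | e
        · right; right; left; rw [eq_inv_of_mul_eq_one_left e, hpinv]
        · right; right; right
          rw [h.zc p hp.1, ← e, mul_assoc, hpp, mul_one]
  have hswap : ∀ p ∈ S ⊓ A, p * p = 1 → p ≠ 1 → p ≠ z → x * p * x⁻¹ = p * z := by
    intro p hp hpp h1 h2
    by_cases hpw : p * w = w * p
    · rcases hP0 p (h.mem_P0.mpr ⟨hp, hpw⟩) with hq_p | hq_p | hq_p | hq_p <;> subst p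
      · exact absurd rfl h1
      · exact absurd rfl h2
      · exact hxwx
      · rw [← conj_mul, hxwx, h.zc x hxP.1, mul_inv_cancel_right]
    · obtain ⟨e, he, rfl⟩ := hx0 p hp hpw
      have hez : e ≠ 1 ∧ e ≠ z := by
        constructor <;> intro hc <;> rw [hc] at hpp
        · rw [one_mul, h.xz] at hpp; exact h.z1 hpp
        · rw [show z * x * (z * x) = z * (x * z) * x by group, h.zc x hxP.1, ← mul_assoc z z, h.z2, one_mul,
            h.xz] at hpp
          exact h.z1 hpp
      have hex : x * e * x⁻¹ = e * z := by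
        rcases he with hq_e | hq_e | hq_e | hq_e <;> subst e
        · exact absurd rfl hez.1
        · exact absurd rfl hez.2
        · exact hxwx
        · rw [← conj_mul, hxwx, h.zc x hxP.1, mul_inv_cancel_right]
      rw [show x * (e * x) * x⁻¹ = (x * e * x⁻¹) * x by group, hex, mul_assoc e z, ← h.zc x hxP.1, mul_assoc]
  exact false_of_shape A (S ⊓ A) (Subgroup.zpowers x) h.perfect h.Pp inf_le_right h.Podd hMP hidx h.zP hxP h.zc_P
    h.z2 h.z1 h.xz (fun p hp hpp => h.fixed_invol (hMP hp) hpp (htM p hp)) hcent hswap h.wP h.w2 h.w1 h.wz h.t2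
    (fun a ha => h.normal.conj_mem a ha t) h.tz h.tx h.twt

/-- The case where `x` centralizes `w` and some element of `P` moves it. -/
theorem false_of_swapped (h : Four A S t x z w) (hxw : x * w = w * x) {g : G} (hg : g ∈ S ⊓ A)
    (hgw : g * w ≠ w * g) : False := by
  classical
  haveI : Fact (Nat.Prime 2) := ⟨Nat.prime_two⟩
  have hx0 : x ∈ h.P0 := h.mem_P0.mpr ⟨h.xP, hxw⟩
  have hW0 : ∀ {e : G}, InW z w e → e ∈ h.P0 := fun he => h.InW_P0 he
  have hWc : ∀ {e : G}, InW z w e → ∀ p ∈ h.P0, p * e = e * p := fun he p hp =>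
    h.InW_comm (h.mem_P0.mp hp).1 (h.mem_P0.mp hp).2 he
  -- `P0` is abelian
  let W : Subgroup h.P0 :=
    { carrier := {e | InW z w (e : G)}
      one_mem' := Or.inl rfl
      mul_mem' := fun {a b} ha hb => h.InW_mul ha hb
      inv_mem' := fun {a} ha => by
        show InW z w ((a : G)⁻¹)
        rw [inv_eq_of_mul_eq_one_right (h.InW_sq ha)]
        exact ha }
  have hWcenter : W ≤ Subgroup.center h.P0 := fun e he =>
    Subgroup.mem_center_iff.mpr fun p => Subtype.ext (hWc he p p.2)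
  haveI : W.Normal := ⟨fun e he p => by
    rw [Subgroup.mem_center_iff.mp (hWcenter he) p, mul_inv_cancel_right]; exact he⟩
  let τ : h.P0 →* h.P0 :=
    { toFun := fun p => ⟨t * p * t⁻¹, h.conj_P0 h.tS p.2⟩
      map_one' := Subtype.ext (by simp)
      map_mul' := fun a b => Subtype.ext (by
        show t * ((a : G) * b) * t⁻¹ = t * a * t⁻¹ * (t * b * t⁻¹)
        group) }
  have hinvW : ∀ q : h.P0 ⧸ W, ∀ a : h.P0, (a : h.P0 ⧸ W) = q → (τ a : h.P0 ⧸ W) = q⁻¹ := by
    rintro q a rfl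
    obtain ⟨e, he, hv⟩ := h.cover_P0 hg hgw a.2
    have h1 : t * (a : G) * t⁻¹ = (a : G)⁻¹ * (e⁻¹ * (t * e * t⁻¹)⁻¹) := by
      rw [← conj_mul] at hv
      rw [eq_mul_inv_of_mul_eq hv, mul_inv_rev, inv_eq_of_mul_eq_one_right (h.InW_sq he),
        ← hWc he _ (inv_mem a.2), mul_assoc]
    rw [← QuotientGroup.mk_inv]
    refine (QuotientGroup.eq.mpr ?_).symm
    show InW z w (((a : G)⁻¹)⁻¹ * (t * a * t⁻¹))
    rw [h1, inv_inv, mul_inv_cancel_left, inv_eq_of_mul_eq_one_right (h.InW_sq he)]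
    refine h.InW_mul he ?_
    rw [conj_inv, inv_eq_of_mul_eq_one_right (h.InW_sq he)]
    rcases he with hq_e | hq_e | hq_e | hq_e <;> subst e
    · left; simp
    · right; left; rw [h.tz, mul_inv_cancel_right]
    · right; right; right; exact h.twt
    · right; right; left; rw [← conj_mul, h.twt, h.tz, mul_inv_cancel_right, mul_assoc, h.z2, mul_one]
  letI : CommGroup (h.P0 ⧸ W) :=
    { (inferInstance : Group (h.P0 ⧸ W)) with
      mul_comm := fun p q => by
        induction p using QuotientGroup.induction_on with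
        | _ a =>
          induction q using QuotientGroup.induction_on with
          | _ b =>
            have h1 := hinvW _ (a * b) rfl
            rw [map_mul, QuotientGroup.mk_mul, QuotientGroup.mk_mul, hinvW _ a rfl, hinvW _ b rfl,
              mul_inv_rev] at h1
            have h2 := congrArg (·⁻¹) h1
            simp only [mul_inv_rev, inv_inv] at h2
            exact h2.symm }
  haveI : IsCyclic (h.P0 ⧸ W) := by
    refine Char.TwoGroupLinear.isCyclic_of_sq ((h.toCfg.Pp.to_le h.P0_le).to_quotient W) ?_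
    refine (Nat.card_le_card_of_injective
      (fun u : {q : h.P0 ⧸ W // q ^ 2 = 1} => (⟨u.1, ?_⟩ :
        ({1, ((⟨x, hx0⟩ : h.P0) : h.P0 ⧸ W)} : Finset (h.P0 ⧸ W))))
      fun u v huv => Subtype.ext (congrArg (fun q : ({1, ((⟨x, hx0⟩ : h.P0) : h.P0 ⧸ W)} :
        Finset (h.P0 ⧸ W)) => (q : h.P0 ⧸ W)) huv)).trans ?_
    · obtain ⟨q, hq⟩ := u
      induction q using QuotientGroup.induction_on with
      | _ a =>
        rw [← QuotientGroup.mk_pow, QuotientGroup.eq_one_iff, pow_two] at hq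
        rw [Finset.mem_insert, Finset.mem_singleton]
        rcases h.roots hg hgw a.2 hq with h1 | ⟨-, h1⟩
        · exact Or.inl ((QuotientGroup.eq_one_iff a).mpr h1)
        · exact Or.inr (QuotientGroup.eq.mpr h1).symm
    · rw [Nat.card_eq_finsetCard]
      exact Finset.card_le_two
  have hab : ∀ p ∈ h.P0, ∀ q ∈ h.P0, p * q = q * p := fun p hp q hq =>
    congrArg Subtype.val (commutative_of_cyclic_center_quotient (QuotientGroup.mk' W)
      (by rw [QuotientGroup.ker_mk']; exact hWcenter) (⟨p, hp⟩ : h.P0) ⟨q, hq⟩)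
  -- the inverted elements
  let K0 : Subgroup G :=
    { carrier := {v | v ∈ h.P0 ∧ t * v * t⁻¹ = v⁻¹}
      one_mem' := ⟨one_mem _, by simp⟩
      mul_mem' := fun {a b} ha hb => ⟨mul_mem ha.1 hb.1, by
        rw [← conj_mul, ha.2, hb.2, ← mul_inv_rev, hab b hb.1 a ha.1]⟩
      inv_mem' := fun {a} ha => ⟨inv_mem ha.1, by rw [← conj_inv, ha.2]⟩ }
  have hK0P : K0 ≤ S ⊓ A := fun v hv => h.P0_le hv.1
  have hzK : z ∈ K0 := ⟨hW0 (Or.inr (Or.inl rfl)), by
    rw [h.tz, mul_inv_cancel_right]; exact (inv_eq_of_mul_eq_one_right h.z2).symm⟩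
  have hwK : w ∉ K0 := fun hw => h.z1 (by
    have := hw.2
    rw [h.twt, inv_eq_of_mul_eq_one_right h.w2] at this
    exact mul_eq_left.mp this)
  have hKnorm : ∀ s ∈ S ⊓ A, ∀ k ∈ K0, s * k * s⁻¹ ∈ K0 := fun s hs k hk => ⟨h.conj_P0 hs.1 hk.1, by
    have hd := hab _ (h.f_mem hs) _ (inv_mem hk.1)
    rw [show t * (s * k * s⁻¹) * t⁻¹ = (t * s * t⁻¹) * (t * k * t⁻¹) * (t * s * t⁻¹)⁻¹ by group, hk.2,
      show t * s * t⁻¹ * k⁻¹ * (t * s * t⁻¹)⁻¹ =
        s * (s⁻¹ * (t * s * t⁻¹) * k⁻¹) * (s⁻¹ * (t * s * t⁻¹))⁻¹ * s⁻¹ by group, hd]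
    group⟩
  have hK02 : ∀ b ∈ h.P0, b * w ∈ K0 ∨ b ∈ K0 := fun b hb => by
    obtain ⟨e, he, hv⟩ := h.cover_P0 hg hgw hb
    have hm : b * e ∈ K0 := ⟨mul_mem hb (hW0 he), hv⟩
    rcases he with hq_e | hq_e | hq_e | hq_e <;> subst e
    · right; rwa [mul_one] at hm
    · right; simpa [mul_assoc, h.z2] using mul_mem hm hzK
    · left; exact hm
    · left; simpa [mul_assoc, h.z2] using mul_mem hm hzK
  let Kp : Subgroup ↥(S ⊓ A) := K0.subgroupOf (S ⊓ A)
  haveI : Kp.Normal := ⟨fun k hk s => hKnorm s s.2 k hk⟩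
  have hKidx : Kp.index = 4 := by
    show K0.relIndex (S ⊓ A) = 4
    have h2 : K0.relIndex h.P0 = 2 := Subgroup.relIndex_eq_two_iff_exists_notMem_and.mpr
      ⟨w, hW0 (Or.inr (Or.inr (Or.inl rfl))), hwK, hK02⟩
    rw [← Subgroup.relIndex_mul_relIndex K0 h.P0 (S ⊓ A) (fun v hv => hv.1) h.P0_le, h2, h.relIndex_P0 hg hgw]
  -- conjugates of `w` by elements taking `P0` into `P`
  have hcand : ∀ g' ∈ A, (∀ p ∈ h.P0, g'⁻¹ * p * g' ∈ S ⊓ A) → g'⁻¹ * w * g' ∈ h.P0 →
      g'⁻¹ * w * g' = w ∨ g'⁻¹ * w * g' = w * z := by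
    intro g' _ hsub hw'
    have hww : g'⁻¹ * w * g' * (g'⁻¹ * w * g') = 1 := by
      rw [show g'⁻¹ * w * g' * (g'⁻¹ * w * g') = g'⁻¹ * (w * w) * g' by group, h.w2, mul_one, inv_mul_cancel]
    have hne1 : ∀ u : G, u ≠ 1 → g'⁻¹ * u * g' ≠ 1 := fun u hu hc =>
      hu ((conj_eq_one_iff (a := g'⁻¹)).mp (by rw [inv_inv]; exact hc))
    rcases h.roots hg hgw hw' (Or.inl hww) with h1 | ⟨-, h1⟩
    · rcases h1 with e | e | e | e
      · exact absurd e (hne1 w h.w1)
      · -- `z` would not be the only involution that is a square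
        exfalso
        have hp : g'⁻¹ * x * g' ∈ S ⊓ A := hsub x hx0
        have hpp : g'⁻¹ * x * g' * (g'⁻¹ * x * g') = g'⁻¹ * z * g' := by
          rw [← h.xz]; group
        have hzz : g'⁻¹ * z * g' * (g'⁻¹ * z * g') = 1 := by
          rw [show g'⁻¹ * z * g' * (g'⁻¹ * z * g') = g'⁻¹ * (z * z) * g' by group, h.z2, mul_one, inv_mul_cancel]
        have hzne : g'⁻¹ * z * g' ≠ z := fun hc => h.wz
          (mul_left_cancel (mul_right_cancel (e.trans hc.symm)))
        have hz1' := hne1 z h.z1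
        by_cases hpw : g'⁻¹ * x * g' * w = w * (g'⁻¹ * x * g')
        · have hp0 := h.mem_P0.mpr ⟨hp, hpw⟩
          have hz0 : g'⁻¹ * z * g' ∈ h.P0 := hpp ▸ mul_mem hp0 hp0
          rcases h.roots hg hgw hz0 (Or.inl hzz) with hq | ⟨-, hq⟩
          · rcases h.roots hg hgw hp0 (hpp.symm ▸ hq) with hq' | ⟨-, hq'⟩
            · exact hz1' (hpp.symm.trans (h.InW_sq hq'))
            · refine hzne ?_
              rw [← hpp, show g'⁻¹ * x * g' = x * (x⁻¹ * (g'⁻¹ * x * g')) by group]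
              generalize x⁻¹ * (g'⁻¹ * x * g') = e0 at hq'
              rw [show x * e0 * (x * e0) = x * (e0 * x) * e0 by group, ← hWc hq' x hx0, ← mul_assoc, h.xz,
                mul_assoc, h.InW_sq hq', mul_one]
          · refine h.z1 ?_
            rw [show g'⁻¹ * z * g' = x * (x⁻¹ * (g'⁻¹ * z * g')) by group] at hzz
            generalize x⁻¹ * (g'⁻¹ * z * g') = e0 at hq hzz
            rw [show x * e0 * (x * e0) = x * (e0 * x) * e0 by group, ← hWc hq x hx0, ← mul_assoc, h.xz, mul_assoc,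
              h.InW_sq hq, mul_one] at hzz
            exact hzz
        · have hz0 : g'⁻¹ * z * g' ∈ h.P0 := by
            rw [← hpp]; exact h.mem_P0.mpr ⟨mul_mem hp hp, h.comm_mul_of_not hp hp hpw hpw⟩
          have hcm : Commute (g'⁻¹ * x * g') (g'⁻¹ * z * g') := by
            rw [← hpp]; exact (Commute.refl _).mul_right (Commute.refl _)
          rcases h.roots hg hgw hz0 (Or.inl hzz) with hq | ⟨-, hq⟩
          · rcases hq with q | q | q | q
            · exact hz1' q
            · exact hzne q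
            · exact hpw (q ▸ hcm.eq)
            · refine hpw ?_
              have : Commute (g'⁻¹ * x * g') (w * z * z) := (q ▸ hcm).mul_right (h.zc _ hp.1)
              rwa [mul_assoc w, h.z2, mul_one] at this
          · refine h.z1 ?_
            rw [show g'⁻¹ * z * g' = x * (x⁻¹ * (g'⁻¹ * z * g')) by group] at hzz
            generalize x⁻¹ * (g'⁻¹ * z * g') = e0 at hq hzz
            rw [show x * e0 * (x * e0) = x * (e0 * x) * e0 by group, ← hWc hq x hx0, ← mul_assoc, h.xz, mul_assoc,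
              h.InW_sq hq, mul_one] at hzz
            exact hzz
      · exact Or.inl e
      · exact Or.inr e
    · exfalso
      refine h.z1 ?_
      rw [show g'⁻¹ * w * g' = x * (x⁻¹ * (g'⁻¹ * w * g')) by group] at hww
      generalize x⁻¹ * (g'⁻¹ * w * g') = e0 at h1 hww
      rw [show x * e0 * (x * e0) = x * (e0 * x) * e0 by group, ← hWc h1 x hx0, ← mul_assoc, h.xz, mul_assoc,
        h.InW_sq h1, mul_one] at hww
      exact hww
  have hQ : IsPGroup 2 h.P0 := h.toCfg.Pp.to_le h.P0_le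
  have hwQ : w ∈ h.P0 := hW0 (Or.inr (Or.inr (Or.inl rfl)))
  by_cases hout : ∀ g' ∈ A, (∀ p ∈ h.P0, g'⁻¹ * p * g' ∈ S ⊓ A) → g'⁻¹ * w * g' ∈ h.P0
  · -- transfer to the quotient by the inverted elements
    letI : CommGroup (↥(S ⊓ A) ⧸ Kp) := IsPGroup.commGroupOfCardEqPrimeSq (p := 2) (by
      show Kp.index = 2 ^ 2
      rw [hKidx]; norm_num)
    have hval := h.toCfg.value_A (B := ↥(S ⊓ A) ⧸ Kp) (QuotientGroup.mk' Kp) h.wP.2 h.w2 h.P0 hQ
      (h.P0_le.trans inf_le_right) hwQ (fun q hq => (h.mem_P0.mp hq).2) (QuotientGroup.mk' Kp ⟨w, h.wP⟩)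
      fun g' hg' hsub hp => by
        rcases hcand g' hg' hsub (hout g' hg' hsub) with e | e
        · simp only [e]
        · have e2 : (⟨_, hp⟩ : ↥(S ⊓ A)) = ⟨w, h.wP⟩ * ⟨z, h.zP⟩ := Subtype.ext e
          rw [e2, map_mul, show QuotientGroup.mk' Kp ⟨z, h.zP⟩ = 1 from (QuotientGroup.eq_one_iff _).mpr hzK,
            mul_one]
    exact hwK ((QuotientGroup.eq_one_iff (⟨w, h.wP⟩ : ↥(S ⊓ A))).mp hval)
  push Not at hout
  obtain ⟨g', hg', hsub, hq0⟩ := hout
  -- an involution `q` outside `P0` centralizing a subgroup of index two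
  obtain ⟨q, hq⟩ : ∃ q, q = g'⁻¹ * w * g' := ⟨_, rfl⟩
  rw [← hq] at hq0
  have hqP : q ∈ S ⊓ A := hq ▸ hsub w hwQ
  have hqw : q * w ≠ w * q := fun hc => hq0 (h.mem_P0.mpr ⟨hqP, hc⟩)
  have hqq : q * q = 1 := by
    rw [hq, show g'⁻¹ * w * g' * (g'⁻¹ * w * g') = g'⁻¹ * (w * w) * g' by group, h.w2, mul_one, inv_mul_cancel]
  have hqinv : q⁻¹ = q := inv_eq_of_mul_eq_one_right hqq
  have hqwq : q * w * q⁻¹ = w * z := h.moves hqP.1 hqw
  let C := h.P0 ⊓ Subgroup.centralizer ({q} : Set G)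
  let E : Subgroup G := h.P0.map (MulAut.conj g'⁻¹).toMonoidHom
  have hEmem : ∀ a ∈ E, a ∈ S ⊓ A ∧ a * q = q * a := by
    rintro a ha
    obtain ⟨p, hp, rfl⟩ := Subgroup.mem_map.mp ha
    simp only [MulEquiv.coe_toMonoidHom, MulAut.conj_apply, inv_inv]
    refine ⟨hsub p hp, ?_⟩
    rw [hq, show g'⁻¹ * p * g' * (g'⁻¹ * w * g') = g'⁻¹ * (p * w) * g' by group, (h.mem_P0.mp hp).2]
    group
  have hcardE : Nat.card E = Nat.card h.P0 := Subgroup.card_map_of_injective (MulAut.conj g'⁻¹).injective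
  have hCidx : ∀ y ∈ h.P0, y ∈ C ∨ y * w ∈ C := by
    have hwC : w ∉ C := fun hc => hqw (Subgroup.mem_centralizer_singleton_iff.mp hc.2).symm
    have h1 : h.P0.relIndex E ≤ 2 := by
      have := Subgroup.relIndex_le_of_le_right (H := h.P0) (fun a ha => (hEmem a ha).1)
        (by rw [h.relIndex_P0 hg hgw]; norm_num)
      rwa [h.relIndex_P0 hg hgw] at this
    have h2 : h.P0 ⊓ E ≤ C := fun a ha =>
      ⟨ha.1, Subgroup.mem_centralizer_singleton_iff.mpr (hEmem a ha.2).2⟩
    have h3 := Subgroup.relIndex_mul_relIndex ⊥ (h.P0 ⊓ E) E bot_le inf_le_right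
    rw [Subgroup.relIndex_bot_left, Subgroup.relIndex_bot_left, Subgroup.inf_relIndex_right, hcardE] at h3
    have h4 := Subgroup.card_le_of_le h2
    have h5 := Subgroup.relIndex_mul_relIndex ⊥ C h.P0 bot_le inf_le_left
    rw [Subgroup.relIndex_bot_left, Subgroup.relIndex_bot_left] at h5
    have h6 : 0 < Nat.card C := Nat.card_pos
    have h7 : C.relIndex h.P0 ≤ 2 := by
      by_contra h8
      push Not at h8
      have h9 := Nat.mul_le_mul_left (Nat.card ↥(h.P0 ⊓ E)) h1
      have h10 := Nat.mul_le_mul_left (Nat.card C) h8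
      omega
    intro y hy
    by_contra hc
    push Not at hc
    haveI : Fintype (h.P0 ⧸ C.subgroupOf h.P0) := Fintype.ofFinite _
    let a1 : h.P0 ⧸ C.subgroupOf h.P0 := ((1 : h.P0) : _)
    let a2 : h.P0 ⧸ C.subgroupOf h.P0 := ((⟨y, hy⟩ : h.P0) : _)
    let a3 : h.P0 ⧸ C.subgroupOf h.P0 := ((⟨w, hwQ⟩ : h.P0) : _)
    have hn : [a1, a2, a3].Nodup := by
      have e12 : a1 ≠ a2 := fun e => hc.1 (by
        simpa [Subgroup.mem_subgroupOf] using QuotientGroup.eq.mp e)
      have e13 : a1 ≠ a3 := fun e => hwC (by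
        simpa [Subgroup.mem_subgroupOf] using QuotientGroup.eq.mp e)
      have e23 : a2 ≠ a3 := fun e => hc.2 (by
        have h' : (y⁻¹ * w) ∈ C := by simpa [Subgroup.mem_subgroupOf] using QuotientGroup.eq.mp e
        have h'' := inv_mem h'
        rw [mul_inv_rev, inv_inv, inv_eq_of_mul_eq_one_right h.w2, ← (h.mem_P0.mp hy).2] at h''
        exact h'')
      simp [e12, e13, e23]
    have := hn.length_le_card
    rw [Fintype.card_eq_nat_card, show Nat.card (h.P0 ⧸ C.subgroupOf h.P0) = C.relIndex h.P0 from rfl] at this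
    simp only [List.length_cons, List.length_nil] at this
    omega
  have hqX : ∀ y ∈ h.P0, q * y * q⁻¹ = y ∨ q * y * q⁻¹ = y * z := fun y hy => by
    rcases hCidx y hy with hc | hc
    · left; rw [← Subgroup.mem_centralizer_singleton_iff.mp hc.2, mul_inv_cancel_right]
    · right
      have hc' : q * (y * w) * q⁻¹ = y * w := by
        rw [← Subgroup.mem_centralizer_singleton_iff.mp hc.2, mul_inv_cancel_right]
      rw [← conj_mul, hqwq] at hc'
      rw [eq_mul_inv_of_mul_eq hc', mul_inv_rev, inv_eq_of_mul_eq_one_right h.z2,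
        inv_eq_of_mul_eq_one_right h.w2, mul_assoc y w, h.zw, ← mul_assoc w, h.w2, one_mul]
  -- the commutator `d` of `q` and `t`
  obtain ⟨d, hd⟩ : ∃ d, d = q⁻¹ * (t * q * t⁻¹) := ⟨_, rfl⟩
  have hd0 : d ∈ h.P0 := hd ▸ h.f_mem hqP
  have hdinv : t * d * t⁻¹ = d⁻¹ := hd ▸ h.f_inv q
  have htq : t * q * t⁻¹ = q * d := by rw [hd, mul_inv_cancel_left]
  have hqdqd : q * d * (q * d) = 1 := by
    rw [← htq, conj_mul, hqq, mul_one, mul_inv_cancel]
  have hqdq : q * d * q⁻¹ = d⁻¹ := by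
    rw [hqinv]
    exact eq_inv_of_mul_eq_one_left (by rw [mul_assoc]; exact hqdqd)
  have hdsq : InW z w (d * d) := by
    rcases hqX d hd0 with e | e <;> rw [hqdq] at e
    · left
      nth_rewrite 1 [← e]
      rw [inv_mul_cancel]
    · right; left
      have h1 := inv_mul_cancel d
      rw [e, mul_assoc, ← h.zc d (h.P0_le hd0).1, ← mul_assoc] at h1
      rw [eq_inv_of_mul_eq_one_left h1, inv_eq_of_mul_eq_one_right h.z2]
  -- `d` lies in the coset of `x`
  have hdW : ¬ InW z w d := by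
    intro hdW
    have hdd := h.InW_sq hdW
    rw [inv_eq_of_mul_eq_one_right hdd] at hdinv
    rcases h.fixed_invol (h.P0_le hd0) hdd (mul_inv_eq_iff_eq_mul.mp hdinv) with e | e
    · subst e
      rw [mul_one] at htq
      rcases h.fixed_invol hqP hqq (mul_inv_eq_iff_eq_mul.mp htq) with e | e
      · exact hqw (by rw [e, one_mul, mul_one])
      · exact hqw (by rw [e, h.zw])
    · have htqw : t * (q * w) * t⁻¹ = q * w := by
        rw [← conj_mul, htq, h.twt, e, show q * z * (w * z) = q * (z * w) * z by group, h.zw, mul_assoc, mul_assoc w,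
          h.z2, mul_one]
      have hqw0 : q * w ∈ h.P0 := by
        rcases h.fixed (mul_mem hqP h.wP) (mul_inv_eq_iff_eq_mul.mp htqw) with e' | e' | e' | e' <;> rw [e']
        exacts [one_mem _, hW0 (Or.inr (Or.inl rfl)), hx0, mul_mem hx0 (hW0 (Or.inr (Or.inl rfl)))]
      refine hq0 ?_
      have := mul_mem hqw0 hwQ
      rwa [mul_assoc, h.w2, mul_one] at this
  have hdx : InW z w (x⁻¹ * d) := ((h.roots hg hgw hd0 hdsq).resolve_left hdW).2
  have hdd : d * d = z := by
    rw [show d = x * (x⁻¹ * d) by group]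
    generalize x⁻¹ * d = e at hdx
    rw [show x * e * (x * e) = x * (e * x) * e by group, ← hWc hdx x hx0, ← mul_assoc, h.xz, mul_assoc,
      h.InW_sq hdx, mul_one]
  -- no element of `P0` squares into the coset of `x`
  have hsmall : ∀ y ∈ h.P0, InW z w y ∨ InW z w (x⁻¹ * y) := by
    intro y hy
    rcases h.descend hg hgw hy with h1 | ⟨-, j, h1⟩
    · exact Or.inl h1
    rcases j with _ | j
    · right; simpa using h1
    exfalso
    rw [pow_succ, pow_mul, pow_two] at h1
    generalize y ^ 2 ^ j = b, pow_mem hy (2 ^ j) = hb at h1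
    obtain ⟨e, he, hv⟩ := h.cover_P0 hg hgw hb
    have hu0 : b * e ∈ h.P0 := mul_mem hb (hW0 he)
    have huu : b * e * (b * e) = b * b := by
      rw [show b * e * (b * e) = b * (e * b) * e by group, ← hWc he b hb, ← mul_assoc, mul_assoc (b * b),
        h.InW_sq he, mul_one]
    generalize b * e = u at hv hu0 huu
    rw [← huu] at h1
    -- `u * u` is an inverted element in the coset of `d`
    have hk : InW z w (d⁻¹ * (u * u)) := by
      have h2 := h.InW_mul hdx h1
      rw [show d⁻¹ * (u * u) = (x⁻¹ * d)⁻¹ * (x⁻¹ * (u * u)) by group, inv_eq_of_mul_eq_one_right (h.InW_sq hdx)]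
      exact h2
    generalize hk' : d⁻¹ * (u * u) = k at hk
    have huk : u * u = d * k := by rw [← hk', mul_inv_cancel_left]
    have hq1 : q * (u * u) * q⁻¹ = u * u := by
      rcases hqX u hu0 with e' | e' <;> rw [← conj_mul, e']
      rw [show u * z * (u * z) = u * (z * u) * z by group, ← h.zc u (h.P0_le hu0).1, ← mul_assoc, mul_assoc (u * u),
        h.z2, mul_one]
    have htk : t * k * t⁻¹ = k := by
      have h2 : t * (d * k) * t⁻¹ = (d * k)⁻¹ := by
        rw [← huk, ← conj_mul, hv, mul_inv_rev]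
      rw [← conj_mul, hdinv, mul_inv_rev, inv_eq_of_mul_eq_one_right (h.InW_sq hk),
        ← hWc hk _ (inv_mem hd0)] at h2
      exact mul_left_cancel h2
    have hkz : q * k * q⁻¹ = k := by
      rcases h.fixed_invol (h.InW_mem hk) (h.InW_sq hk) (mul_inv_eq_iff_eq_mul.mp htk) with e' | e' <;> rw [e']
      · group
      · rw [h.zc q hqP.1, mul_inv_cancel_right]
    rw [huk, ← conj_mul, hqdq, hkz, mul_left_inj] at hq1
    refine h.z1 ?_
    rw [← hdd]
    nth_rewrite 1 [← hq1]
    rw [inv_mul_cancel]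
  have hqK : ∀ k ∈ K0, q * k * q⁻¹ = k⁻¹ := by
    intro k hk
    have hfixW : ∀ e : G, InW z w e → t * e * t⁻¹ = e → q * e * q⁻¹ = e := fun e he hte => by
      rcases h.fixed_invol (h.InW_mem he) (h.InW_sq he) (mul_inv_eq_iff_eq_mul.mp hte) with e' | e' <;> rw [e']
      · group
      · rw [h.zc q hqP.1, mul_inv_cancel_right]
    rcases hsmall k hk.1 with h1 | h1
    · have hte : t * k * t⁻¹ = k := hk.2.trans (inv_eq_of_mul_eq_one_right (h.InW_sq h1))
      rw [hfixW k h1 hte, inv_eq_of_mul_eq_one_right (h.InW_sq h1)]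
    · have hkd : InW z w (d⁻¹ * k) := by
        rw [show d⁻¹ * k = (x⁻¹ * d)⁻¹ * (x⁻¹ * k) by group, inv_eq_of_mul_eq_one_right (h.InW_sq hdx)]
        exact h.InW_mul hdx h1
      generalize he : d⁻¹ * k = e at hkd
      have hke : k = d * e := by rw [← he, mul_inv_cancel_left]
      have hte : t * e * t⁻¹ = e := by
        have h2 := hk.2
        rw [hke, ← conj_mul, hdinv, mul_inv_rev, inv_eq_of_mul_eq_one_right (h.InW_sq hkd),
          ← hWc hkd _ (inv_mem hd0)] at h2
        exact mul_left_cancel h2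
      rw [hke, ← conj_mul, hqdq, hfixW e hkd hte, mul_inv_rev, inv_eq_of_mul_eq_one_right (h.InW_sq hkd),
        hWc hkd _ (inv_mem hd0)]
  -- the subgroup `⟨K0, q w⟩`
  have hqw2 : q * w * (q * w) = z := by
    rw [show q * w * (q * w) = (q * w * q⁻¹) * (q * q) * w by group, hqwq, hqq, mul_one, mul_assoc, h.zw,
      ← mul_assoc, h.w2, one_mul]
  have hqwP : q * w ∈ S ⊓ A := mul_mem hqP h.wP
  let M : Subgroup G :=
    { carrier := {p | p ∈ K0 ∨ q * w * p ∈ K0}
      one_mem' := Or.inl (one_mem K0)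
      mul_mem' := by
        rintro a b (ha | ha) (hb | hb)
        · exact Or.inl (mul_mem ha hb)
        · refine Or.inr ?_
          rw [show q * w * (a * b) = (q * w * a * (q * w)⁻¹) * (q * w * b) by group]
          exact mul_mem (hKnorm _ hqwP a ha) hb
        · exact Or.inr (by rw [← mul_assoc]; exact mul_mem ha hb)
        · refine Or.inl ?_
          rw [show a * b = ((q * w)⁻¹ * (q * w * a) * (q * w)) * (q * w * (q * w))⁻¹ * (q * w * b) by group, hqw2]
          refine mul_mem (mul_mem ?_ (inv_mem hzK)) hb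
          have := hKnorm _ (inv_mem hqwP) _ ha
          rwa [inv_inv] at this
      inv_mem' := by
        rintro a (ha | ha)
        · exact Or.inl (inv_mem ha)
        · refine Or.inr ?_
          rw [show q * w * a⁻¹ = (q * w) * (q * w * a)⁻¹ * (q * w)⁻¹ * (q * w * (q * w)) by group, hqw2]
          exact mul_mem (hKnorm _ hqwP _ (inv_mem ha)) hzK }
  have hMP : M ≤ S ⊓ A := by
    rintro p (hp | hp)
    · exact hK0P hp
    · simpa [mul_assoc] using mul_mem (inv_mem hqwP) (hK0P hp)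
  have hwM : w ∉ M := by
    rintro (hw' | hw')
    · exact hwK hw'
    · refine hq0 ?_
      have := (K0.mem_carrier.mpr hw').1
      rwa [mul_assoc, h.w2, mul_one] at this
  have hMidx : (M.subgroupOf (S ⊓ A)).index = 2 := by
    show M.relIndex (S ⊓ A) = 2
    refine Subgroup.relIndex_eq_two_iff_exists_notMem_and.mpr ⟨w, h.wP, hwM, fun b hb => ?_⟩
    by_cases hbw : b * w = w * b
    · exact (hK02 b (h.mem_P0.mpr ⟨hb, hbw⟩)).imp Or.inl Or.inl
    · have hqb : q * b ∈ h.P0 := h.mem_P0.mpr ⟨mul_mem hqP hb, h.comm_mul_of_not hqP hb hqw hbw⟩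
      have hbinv := h.moves hb.1 hbw
      have hwbw : w * b * w = b * z := by
        rw [show w * b * w = w * (b * w * b⁻¹) * b by group, hbinv, ← mul_assoc, h.w2, one_mul, h.zc b hb.1]
      rcases hK02 _ hqb with hk | hk
      · refine Or.inr (Or.inr ?_)
        have hwb : w * b = b * w * z := by
          rw [show w * b = w * b * (w * w) by rw [h.w2, mul_one], ← mul_assoc, hwbw, mul_assoc, h.zw, mul_assoc]
        rw [mul_assoc, hwb, ← mul_assoc, ← mul_assoc]
        exact mul_mem hk hzK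
      · refine Or.inl (Or.inr ?_)
        rw [show q * w * (b * w) = q * (w * b * w) by group, hwbw, ← mul_assoc]
        exact mul_mem hk hzK
  have hval := h.toCfg.value_A (indexTwoHom (M.subgroupOf (S ⊓ A)) hMidx) h.wP.2 h.w2 h.P0 hQ
    (h.P0_le.trans inf_le_right) hwQ (fun p hp => (h.mem_P0.mp hp).2) (-1)
    fun g'' hg'' hsub' hp => by
      refine indexTwoHom_not_mem hMidx fun hm => ?_
      rw [Subgroup.mem_subgroupOf] at hm
      have hpp : g''⁻¹ * w * g'' * (g''⁻¹ * w * g'') = 1 := by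
        rw [show g''⁻¹ * w * g'' * (g''⁻¹ * w * g'') = g''⁻¹ * (w * w) * g'' by group, h.w2, mul_one, inv_mul_cancel]
      rcases hm with hm | hm
      · rcases hcand g'' hg'' hsub' (hm : _ ∈ K0).1 with e | e
        · exact hwK (by rwa [← e])
        · refine hwK ?_
          have hm' : w * z ∈ K0 := by rw [← e]; exact hm
          have := mul_mem hm' hzK
          rwa [mul_assoc, h.z2, mul_one] at this
      · -- an element of `q w K0` squares to `z`
        refine h.z1 (Eq.trans ?_ hpp)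
        change q * w * (g''⁻¹ * w * g'') ∈ K0 at hm
        generalize hk : q * w * (g''⁻¹ * w * g'') = k at hm
        have hk' : g''⁻¹ * w * g'' = q * w * (z * k) := by
          rw [← hk, ← mul_assoc z, ← mul_assoc, ← mul_assoc (q * w), h.zc _ hqwP.1]
          rw [show z * (q * w) * (q * w) = z * (q * w * (q * w)) by group, hqw2, h.z2, one_mul]
        rw [hk']
        have hzk : z * k ∈ K0 := mul_mem hzK hm
        generalize z * k = l at hzk
        have hl : q * w * l * (q * w)⁻¹ = l⁻¹ := by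
          rw [show q * w * l * (q * w)⁻¹ = q * (w * l * w⁻¹) * q⁻¹ by group, ← (h.mem_P0.mp hzk.1).2,
            mul_inv_cancel_right, hqK l hzk]
        rw [show q * w * l * (q * w * l) = (q * w * l * (q * w)⁻¹) * (q * w * (q * w)) * l by group, hl, hqw2,
          mul_assoc, ← h.zc l (hK0P hzk).1, inv_mul_cancel_left]
  exact absurd hval (by decide)

end Four

end CfsgLib.FixedFour
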