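import Cfsg.Agent.Lib.FixedFour.Basic

/-!
# No invariant four-group: dihedral and semidihedral Sylow subgroups
-/

set_option autoImplicit false
set_option linter.unusedSectionVars false
set_option linter.style.haveILetI false

namespace CfsgLib.FixedFour

open CfsgLib.FourRankOne

variable {G : Type*} [Group G] [Finite G]
variable {A S : Subgroup G} {t x z : G}

theorem false_of_no_four (h : Cfg A S t x z) {e₁ e₂ : G} (he₁ : e₁ ∈ S ⊓ A) (he₂ : e₂ ∈ S ⊓ A)
    (h₁ : e₁ * e₁ = 1) (h₂ : e₂ * e₂ = 1) (h₁' : e₁ ≠ 1) (h₂' : e₂ ≠ 1) (hne : e₁ ≠ e₂)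
    (hno : ∀ w ∈ S ⊓ A, w * w = 1 → w ≠ 1 → w ≠ z → (∀ s ∈ S, s * w * s⁻¹ = w ∨ s * w * s⁻¹ = w * z) → False) :
    False := by
  classical
  haveI : Fact (Nat.Prime 2) := ⟨Nat.prime_two⟩
  let PT : Subgroup S := A.subgroupOf S
  haveI : PT.Normal := ⟨fun p hp g => h.normal.conj_mem _ hp g⟩
  obtain ⟨Sh⟩ := exists_shape h.S2 PT (fun z₀ hz₀ w hw z2 z1 w2 w1 hwz hzc hwc => by
    have hz₀z : (z₀ : G) = z := by
      refine ((h.fixed_invol ⟨z₀.2, hz₀⟩ (congrArg Subtype.val z2)
        (congrArg Subtype.val (hzc ⟨t, h.tS⟩))).resolve_left fun e => z1 (Subtype.ext e))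
    refine hno w ⟨w.2, hw⟩ (congrArg Subtype.val w2) (fun e => w1 (Subtype.ext e))
      (fun e => hwz (Subtype.ext (e.trans hz₀z.symm))) fun s hs => ?_
    exact (hwc ⟨s, hs⟩).imp (congrArg Subtype.val) fun e => (congrArg Subtype.val e).trans (by
      show (w : G) * z₀ = w * z
      rw [hz₀z]))
    (e₁ := ⟨e₁, he₁.1⟩) (e₂ := ⟨e₂, he₂.1⟩) he₁.2 he₂.2 (Subtype.ext h₁) (Subtype.ext h₂)
    (fun e => h₁' (congrArg Subtype.val e)) (fun e => h₂' (congrArg Subtype.val e))
    (fun e => hne (congrArg Subtype.val e))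
  obtain ⟨A0, z', r, hA0, hidx, hzA0, hz2', hz1', hzc', hrA0, hrr', hinv, hrconj, hroot, hout', hcent', hswap', hfix',
    hinvfix, hbig⟩ := Sh
  have hzz : (z' : G) = z := ((h.fixed_invol ⟨z'.2, hA0 hzA0⟩ (congrArg Subtype.val hz2')
    (congrArg Subtype.val (hzc' ⟨t, h.tS⟩))).resolve_left fun e => hz1' (Subtype.ext e))
  obtain rfl : z' = ⟨z, h.zP.1⟩ := Subtype.ext hzz
  -- an involution outside `A0`
  obtain ⟨e, he, heA, hee⟩ : ∃ e : S, e ∈ PT ∧ e ∉ A0 ∧ e * e = 1 := by
    by_cases hc : (⟨e₁, he₁.1⟩ : S) ∈ A0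
    · refine ⟨⟨e₂, he₂.1⟩, he₂.2, fun hc2 => ?_, Subtype.ext h₂⟩
      rcases hinv _ hc (Subtype.ext h₁) with e | e
      · exact h₁' (congrArg Subtype.val e)
      rcases hinv _ hc2 (Subtype.ext h₂) with e' | e'
      · exact h₂' (congrArg Subtype.val e')
      exact hne (congrArg Subtype.val (e.trans e'.symm))
    · exact ⟨⟨e₁, he₁.1⟩, he₁.2, hc, Subtype.ext h₁⟩
  let x' : S := ⟨x, h.xP.1⟩
  let t' : S := ⟨t, h.tS⟩
  have hxx : x' * x' = ⟨z, h.zP.1⟩ := Subtype.ext h.xz
  have htt : t' * t' = 1 := Subtype.ext h.t2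
  by_cases hxA : x' ∈ A0
  · -- `x` lies in the cyclic subgroup
    let M : Subgroup G := A0.map S.subtype
    have hMP : M ≤ S ⊓ A := fun p hp => by
      obtain ⟨y, hy, rfl⟩ := Subgroup.mem_map.mp hp
      exact ⟨y.2, hA0 hy⟩
    have hMinv : ∀ p ∈ M, p * p = 1 → p = 1 ∨ p = z := by
      intro p hp hpp
      obtain ⟨y, hy, rfl⟩ := Subgroup.mem_map.mp hp
      exact (hinv y hy (Subtype.ext hpp)).imp (congrArg Subtype.val) (congrArg Subtype.val)
    have hidx' : M.relIndex (S ⊓ A) = 2 := by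
      have hP' : S ⊓ A = PT.map S.subtype := by
        show S ⊓ A = (A.subgroupOf S).map S.subtype
        rw [Subgroup.subgroupOf_map_subtype, inf_comm]
      rw [hP', Subgroup.relIndex_map_map_of_injective _ _ S.subtype_injective, hidx]
    have hnM : ∀ (p : G) (hp : p ∈ S ⊓ A), p * p = 1 → p ≠ 1 → p ≠ z → (⟨p, hp.1⟩ : S) ∉ A0 :=
      fun p hp hpp h1 h2 hm => (hMinv p ⟨_, hm, rfl⟩ hpp).elim h1 h2
    have hcent : ∀ p ∈ S ⊓ A, p * p = 1 → p ≠ 1 → p ≠ z → ∀ c ∈ S ⊓ A, c * p = p * c →
        c = 1 ∨ c = z ∨ c = p ∨ c = p * z := by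
      intro p hp hpp h1 h2 c hc hcp
      have := hcent' ⟨p, hp.1⟩ hp.2 (hnM p hp hpp h1 h2) (Subtype.ext hpp) ⟨c, hc.1⟩ hc.2 (Subtype.ext hcp)
      simpa [Subtype.ext_iff] using this
    have hswap : ∀ p ∈ S ⊓ A, p * p = 1 → p ≠ 1 → p ≠ z → x * p * x⁻¹ = p * z := by
      intro p hp hpp h1 h2
      have hsw : (r : G) * p * (r : G)⁻¹ = p * z :=
        congrArg Subtype.val (hswap' ⟨p, hp.1⟩ hp.2 (hnM p hp hpp h1 h2) (Subtype.ext hpp))
      rcases hroot x' hxA hxx with e' | e'
      · rw [show x = (r : G) from congrArg Subtype.val e']; exact hsw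
      · rw [show x = (r : G) * z from congrArg Subtype.val e',
          show (r : G) * z * p * ((r : G) * z)⁻¹ = r * (z * p * z⁻¹) * (r : G)⁻¹ by group, ← h.zc p hp.1,
          mul_inv_cancel_right]
        exact hsw
    have htr : t' * r = r * t' := by
      rcases hroot x' hxA hxx with e' | e'
      · exact e' ▸ Subtype.ext h.tx
      · have hr : r = x' * ⟨z, h.zP.1⟩ := by rw [e', mul_assoc, hz2', mul_one]
        refine Subtype.ext ?_
        show t * (r : G) = r * t
        rw [show (r : G) = x * z from congrArg Subtype.val hr, ← mul_assoc, h.tx, mul_assoc, h.tz, mul_assoc]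
    have he1 : (e : G) ≠ 1 := fun e0 => heA (by rw [show e = 1 from Subtype.ext e0]; exact one_mem A0)
    have hez : (e : G) ≠ z := fun e0 => heA (by
      rw [show e = ⟨z, h.zP.1⟩ from Subtype.ext e0]; exact hzA0)
    have het : t * (e : G) * t⁻¹ = e * z := by
      rcases hfix' t' htt htr e he heA hee with h' | h'
      · exfalso
        exact ((h.fixed_invol ⟨e.2, he⟩ (congrArg Subtype.val hee)
          (mul_inv_eq_iff_eq_mul.mp (congrArg Subtype.val h'))).elim he1 hez)
      · exact congrArg Subtype.val h'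
    exact false_of_shape A (S ⊓ A) M h.perfect h.Pp inf_le_right h.Podd hMP hidx' h.zP h.xP h.zc_P h.z2 h.z1 h.xz
      hMinv hcent hswap ⟨e.2, he⟩ (congrArg Subtype.val hee) he1 hez h.t2
      (fun a ha => h.normal.conj_mem a ha t) h.tz h.tx het
  · -- `x` lies outside: compare the transfers of `t` and of an involution centralizing `r`
    have htr : t' * r * t'⁻¹ = r * ⟨z, h.zP.1⟩ := by
      refine (hrconj t').resolve_left fun h' => hxA ?_
      have hfix := h.fixed ⟨r.2, hA0 hrA0⟩ (mul_inv_eq_iff_eq_mul.mp (congrArg Subtype.val h'))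
      rcases hfix with e' | e' | e' | e'
      · exact absurd (by rw [← hrr', show r = 1 from Subtype.ext e', one_mul]) hz1'
      · exact absurd (by rw [← hrr', show r = ⟨z, h.zP.1⟩ from Subtype.ext e', hz2']) hz1'
      · exact (show r = x' from Subtype.ext e') ▸ hrA0
      · have hx' : x' = r * ⟨z, h.zP.1⟩ := by
          rw [show r = x' * ⟨z, h.zP.1⟩ from Subtype.ext e', mul_assoc, hz2', mul_one]
        exact hx' ▸ mul_mem hrA0 hzA0
    -- the subgroup centralizing `r`
    let K : Subgroup S := Subgroup.centralizer ({r} : Set S)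
    have hKi : K.index = 2 := by
      refine Subgroup.index_eq_two_iff_exists_notMem_and.mpr ⟨t', fun hk => hz1' ?_, fun b => ?_⟩
      · have := Subgroup.mem_centralizer_singleton_iff.mp hk
        rw [this, mul_inv_cancel_right, left_eq_mul] at htr
        exact htr
      · rcases hrconj b with hb | hb
        · exact Or.inr (Subgroup.mem_centralizer_singleton_iff.mpr (mul_inv_eq_iff_eq_mul.mp hb))
        · refine Or.inl (Subgroup.mem_centralizer_singleton_iff.mpr (mul_inv_eq_iff_eq_mul.mp ?_))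
          rw [show b * t' * r * (b * t')⁻¹ = b * (t' * r * t'⁻¹) * b⁻¹ by group, htr, ← conj_mul, hb,
            hzc' b, mul_inv_cancel_right, mul_assoc, hz2', mul_one]
    let φ : S →* ℤˣ := indexTwoHom K hKi
    -- the involution `q`
    have hxr : x' * r * x'⁻¹ = r * ⟨z, h.zP.1⟩ := hout' x' h.xP.2 hxA
    have htx : t' * x' = x' * t' := Subtype.ext h.tx
    have htinv : t'⁻¹ = t' := inv_eq_of_mul_eq_one_right htt
    set q : S := r * x' * t' with hq
    have hqr : q * r * q⁻¹ = r := by
      have hxrz : x' * (r * ⟨z, h.zP.1⟩) * x'⁻¹ = r := by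
        rw [← conj_mul, hxr, hzc' x', mul_inv_cancel_right, mul_assoc r, hz2', mul_one]
      rw [hq, show r * x' * t' * r * (r * x' * t')⁻¹ = r * (x' * (t' * r * t'⁻¹) * x'⁻¹) * r⁻¹ by group, htr,
        hxrz, mul_inv_cancel_right]
    have hqq : q * q = 1 := by
      have h1 : q * q = r * x' * (t' * r * t'⁻¹) * x' := by
        calc q * q = r * x' * t' * r * (x' * t') := by rw [hq]; group
          _ = r * x' * t' * r * (t' * x') := by rw [htx]
          _ = _ := by rw [htinv]; group
      rw [h1, htr, show r * x' * (r * (⟨z, h.zP.1⟩ : S)) * x' = r * (x' * r * x'⁻¹) * (x' * ⟨z, h.zP.1⟩ * x') by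
        group, hxr, hzc' x', mul_assoc (⟨z, h.zP.1⟩ : S), hxx, hz2', mul_one, ← mul_assoc, hrr', hz2']
    have hxP : ∀ g ∈ S ⊓ A, ∀ hg : g ∈ S, (⟨g, hg⟩ : S) ∈ PT := fun g hg _ => hg.2
    -- values at conjugates of `t`
    have hall : ∀ g : G, (∀ y ∈ Subgroup.zpowers t, g⁻¹ * y * g ∈ S) → ∀ hp : g⁻¹ * t * g ∈ S,
        φ ⟨g⁻¹ * t * g, hp⟩ = -1 := by
      intro g _ hp
      refine indexTwoHom_not_mem hKi fun hk => ?_
      have h8 := hbig ⟨_, hp⟩ (Subtype.ext (by
        show g⁻¹ * t * g * (g⁻¹ * t * g) = 1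
        rw [show g⁻¹ * t * g * (g⁻¹ * t * g) = g⁻¹ * (t * t) * g by group, h.t2, mul_one, inv_mul_cancel]))
        (Subgroup.mem_centralizer_singleton_iff.mp hk) e he heA hee x' h.xP.2 hxA hxx
      set D := PT ⊓ Subgroup.centralizer ({(⟨_, hp⟩ : S)} : Set S) with hD
      let Dg : Subgroup G := (D.map S.subtype).map (MulAut.conj g).toMonoidHom
      have h4 := h.four Dg (((h.S2.to_subgroup D).map _).map _) (fun a ha => by
          obtain ⟨b, hb, rfl⟩ := Subgroup.mem_map.mp ha
          obtain ⟨d, hd, rfl⟩ := Subgroup.mem_map.mp hb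
          exact h.normal.conj_mem _ hd.1 g) fun a ha => by
          obtain ⟨b, hb, rfl⟩ := Subgroup.mem_map.mp ha
          obtain ⟨d, hd, rfl⟩ := Subgroup.mem_map.mp hb
          have hc : (d : G) * (g⁻¹ * t * g) = g⁻¹ * t * g * d :=
            congrArg Subtype.val (Subgroup.mem_centralizer_singleton_iff.mp hd.2)
          show t * (g * d * g⁻¹) = g * d * g⁻¹ * t
          calc t * (g * d * g⁻¹) = g * ((g⁻¹ * t * g) * d) * g⁻¹ := by group
            _ = g * ((d : G) * (g⁻¹ * t * g)) * g⁻¹ := by rw [hc]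
            _ = _ := by group
      rw [show Dg = (D.map S.subtype).map (MulAut.conj g).toMonoidHom from rfl,
        Subgroup.card_map_of_injective (MulAut.conj g).injective,
        Subgroup.card_map_of_injective S.subtype_injective] at h4
      omega
    -- values at conjugates of `q`
    let Q : Subgroup G := (Subgroup.centralizer ({q} : Set S)).map S.subtype
    have hall' : ∀ g : G, (∀ y ∈ Q, g⁻¹ * y * g ∈ S) → ∀ hp : g⁻¹ * (q : G) * g ∈ S,
        φ ⟨g⁻¹ * q * g, hp⟩ = 1 := by
      intro g hg hp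
      refine indexTwoHom_mem hKi (by_contra fun hk => ?_)
      set u : S := ⟨_, hp⟩ with hu
      set D := PT ⊓ Subgroup.centralizer ({u} : Set S)
      have hne' : u * r ≠ r * u := fun hc => hk (Subgroup.mem_centralizer_singleton_iff.mpr hc)
      -- at most four elements centralize `u`
      have hle : Nat.card D ≤ 4 := by
        by_cases hout2 : ∃ b ∈ D, b ∉ A0
        · obtain ⟨b, hb, hbA⟩ := hout2
          have hsub : (D : Set S) ⊆ ({1, ⟨z, h.zP.1⟩, b⁻¹, b⁻¹ * ⟨z, h.zP.1⟩} : Finset S) := by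
            intro c hc
            simp only [Finset.coe_insert, Finset.coe_singleton, Set.mem_insert_iff, Set.mem_singleton_iff]
            have hcu : ∀ c ∈ D, u * c = c * u := fun c hc =>
              (Subgroup.mem_centralizer_singleton_iff.mp hc.2).symm
            by_cases hcA : c ∈ A0
            · rcases hinvfix u hne' c hcA (hcu c hc) with e' | e' <;> simp [e']
            · have hbc : b * c ∈ A0 := by
                have h2 : (A0.subgroupOf PT).index = 2 := hidx
                have := Subgroup.mul_mem_iff_of_index_two h2 (a := ⟨b, hb.1⟩) (b := ⟨c, hc.1⟩)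
                simpa [Subgroup.mem_subgroupOf, hbA, hcA] using this
              rcases hinvfix u hne' _ hbc (hcu _ (mul_mem hb hc)) with e' | e'
              · right; right; left; exact eq_inv_of_mul_eq_one_right e'
              · right; right; right; rw [← e', inv_mul_cancel_left]
          have h2 := Set.ncard_le_ncard hsub (Finset.finite_toSet _)
          rw [Set.ncard_coe_finset, ← Nat.card_coe_set_eq] at h2
          exact h2.trans Finset.card_le_four
        · push Not at hout2
          have hsub : (D : Set S) ⊆ ({1, ⟨z, h.zP.1⟩} : Finset S) := fun c hc => by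
            rcases hinvfix u hne' c (hout2 c hc) (Subgroup.mem_centralizer_singleton_iff.mp hc.2).symm with e' | e' <;>
              simp [e']
          have h2 := Set.ncard_le_ncard hsub (Finset.finite_toSet _)
          rw [Set.ncard_coe_finset, ← Nat.card_coe_set_eq] at h2
          exact (h2.trans Finset.card_le_two).trans (by norm_num)
      have h8 := hbig q hqq (mul_inv_eq_iff_eq_mul.mp hqr) e he heA hee x' h.xP.2 hxA hxx
      have hmem : ∀ c : ↥(PT ⊓ Subgroup.centralizer ({q} : Set S)), g⁻¹ * ((c : S) : G) * g ∈ S := fun c =>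
        hg _ ⟨_, c.2.2, rfl⟩
      have hinj : Nat.card ↥(PT ⊓ Subgroup.centralizer ({q} : Set S)) ≤ Nat.card D := by
        refine Nat.card_le_card_of_injective (fun c => (⟨⟨_, hmem c⟩, ?_, ?_⟩ : D)) fun c d hcd => ?_
        · show g⁻¹ * ((c : S) : G) * g ∈ A
          have := h.normal.conj_mem _ c.2.1 g⁻¹
          rwa [inv_inv] at this
        · refine Subgroup.mem_centralizer_singleton_iff.mpr (Subtype.ext ?_)
          have hc : ((c : S) : G) * q = q * (c : S) :=
            congrArg Subtype.val (Subgroup.mem_centralizer_singleton_iff.mp c.2.2)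
          show g⁻¹ * ((c : S) : G) * g * (g⁻¹ * q * g) = g⁻¹ * q * g * (g⁻¹ * (c : S) * g)
          calc g⁻¹ * ((c : S) : G) * g * (g⁻¹ * q * g) = g⁻¹ * (((c : S) : G) * q) * g := by group
            _ = g⁻¹ * (q * (c : S)) * g := by rw [hc]
            _ = _ := by group
        · have h' := congrArg (fun v : D => ((v : S) : G)) hcd
          simp only [mul_left_inj, mul_right_inj] at h'
          exact Subtype.ext (Subtype.ext h')
      omega
    have htq : t * (q : G) ∈ A := by
      show t * ((r : G) * x * t) ∈ A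
      have h1 := h.normal.conj_mem _ (mul_mem (hA0 hrA0) h.xP.2 : (r : G) * x ∈ A) t
      rwa [inv_eq_of_mul_eq_one_right h.t2, mul_assoc] at h1
    have hfin := h.value_G φ htq (congrArg Subtype.val hqq) (Subgroup.zpowers t) Q
      (h.S2.to_le (Subgroup.zpowers_le.mpr h.tS)) (h.S2.to_le (Subgroup.map_subtype_le _))
      (Subgroup.mem_zpowers t)
      (fun y hy => by
        obtain ⟨i, rfl⟩ := Subgroup.mem_zpowers_iff.mp hy
        exact ((Commute.refl t).zpow_left i).eq)
      ⟨q, Subgroup.mem_centralizer_singleton_iff.mpr rfl, rfl⟩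
      (fun y hy => by
        obtain ⟨c, hc, rfl⟩ := Subgroup.mem_map.mp hy
        exact congrArg Subtype.val (Subgroup.mem_centralizer_singleton_iff.mp hc)) _ _ hall hall'
    exact absurd hfin (by decide)

end CfsgLib.FixedFour
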