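import Cfsg.Prelude.Def_CaseTheorems
import Cfsg.Agent.Lib.FourRankOne.Main
import Cfsg.Agent.Lib.FixedFour.CaseShape
import Cfsg.Agent.Lib.FixedFour.CaseCentral

/-!
# An involution acting on a perfect group with cyclic fixed Sylow subgroup of order four: the group has 2-rank one
-/

set_option autoImplicit false
set_option linter.unusedSectionVars false
set_option linter.style.haveILetI false

namespace CfsgLib.FixedFour

open CfsgLib.FourRankOne

theorem false_of_cover {G : Type*} [Group G] [Finite G] (A : Subgroup G) (hA : ⁅A, A⁆ = A) [hAn : A.Normal]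
    (t : G) (cover : ∀ g, g ∈ A ∨ t * g ∈ A) (ht : t * t = 1) (htA : t ∉ A)
    (one : ∀ a ∈ A, ∀ b ∈ A, a * a = 1 → b * b = 1 → a ≠ 1 → b ≠ 1 → t * a = a * t → t * b = b * t →
      a * b = b * a → a = b)
    (four : ∀ Q : Subgroup G, IsPGroup 2 Q → Q ≤ A → (∀ q ∈ Q, t * q = q * t) → Nat.card Q ≤ 4)
    {x : G} (hxA : x ∈ A) (htx : t * x = x * t) (hx2 : x * x ≠ 1) (hx4 : x * x * (x * x) = 1)
    {a b : G} (ha : a ∈ A) (hb : b ∈ A) (ha2 : a * a = 1) (hb2 : b * b = 1) (ha1 : a ≠ 1) (hb1 : b ≠ 1)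
    (hab : a ≠ b) (hcomm : a * b = b * a) : False := by
  classical
  haveI : Fact (Nat.Prime 2) := ⟨Nat.prime_two⟩
  -- a Sylow subgroup containing `t` and `x`
  let K := Subgroup.closure ({t, x} : Set G)
  have hK : IsPGroup 2 K := by
    haveI : IsMulCommutative K := Subgroup.isMulCommutative_closure (by
      rintro u (rfl | rfl) v (rfl | rfl)
      · rfl
      · exact htx
      · exact htx.symm
      · rfl)
    refine fun ⟨y, hy⟩ => ⟨2, Subtype.ext ?_⟩
    show y ^ 2 ^ 2 = 1
    induction hy using Subgroup.closure_induction with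
    | mem y hy =>
      rcases hy with rfl | rfl
      · rw [show (2 : ℕ) ^ 2 = 2 * 2 from rfl, pow_mul, pow_two y, ht, one_pow]
      · rw [show y ^ 2 ^ 2 = y * y * (y * y) by simp [pow_succ, mul_assoc], hx4]
    | one => exact one_pow _
    | mul u v hu hv iu iv =>
      have huv : Commute u v := congrArg Subtype.val (mul_comm' (⟨u, hu⟩ : K) ⟨v, hv⟩)
      rw [huv.mul_pow, iu, iv, mul_one]
    | inv u _ iu => rw [inv_pow, iu, inv_one]
  obtain ⟨S, hKS⟩ := hK.exists_le_sylow
  have htS : t ∈ (S : Subgroup G) := hKS (Subgroup.subset_closure (by simp))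
  have hxS : x ∈ (S : Subgroup G) := hKS (Subgroup.subset_closure (by simp))
  haveI : (A.subgroupOf (S : Subgroup G)).Normal := inferInstance
  -- the square of `x` is central in `S`
  obtain ⟨z₀, hz₀A, hz₀1, hz₀2, hz₀c⟩ := exists_central S.2 (A.subgroupOf (S : Subgroup G)) fun hb' => hx2 (by
    have : (⟨x, hxS⟩ : (S : Subgroup G)) ∈ A.subgroupOf (S : Subgroup G) := hxA
    rw [hb', Subgroup.mem_bot] at this
    rw [show x = 1 from congrArg Subtype.val this, one_mul])
  have hzz : (z₀ : G) = x * x := by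
    refine one _ hz₀A _ (mul_mem hxA hxA) (congrArg Subtype.val hz₀2) hx4 (fun e => hz₀1 (Subtype.ext e)) hx2
      (congrArg Subtype.val (hz₀c ⟨t, htS⟩)) ?_ ?_
    · exact ((show Commute t x from htx).mul_right htx).eq
    · exact (congrArg Subtype.val (hz₀c (⟨x, hxS⟩ * ⟨x, hxS⟩))).symm
  have h : Cfg A (S : Subgroup G) t x (x * x) :=
    { perfect := hA
      normal := hAn
      cover := cover
      t2 := ht
      tA := htA
      one := one
      four := four
      S2 := S.2
      Sodd := S.not_dvd_index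
      tS := htS
      xP := ⟨hxS, hxA⟩
      tx := htx
      xz := rfl
      z2 := hx4
      z1 := hx2
      zc := fun s hs => hzz ▸ congrArg Subtype.val (hz₀c ⟨s, hs⟩) }
  -- two commuting involutions in `P`
  let X := Subgroup.closure ({a, b} : Set G)
  have hX : IsPGroup 2 X := by
    haveI : IsMulCommutative X := Subgroup.isMulCommutative_closure (by
      rintro u (rfl | rfl) v (rfl | rfl)
      · rfl
      · exact hcomm
      · exact hcomm.symm
      · rfl)
    refine fun ⟨y, hy⟩ => ⟨1, Subtype.ext ?_⟩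
    show y ^ 2 ^ 1 = 1
    induction hy using Subgroup.closure_induction with
    | mem y hy => rcases hy with rfl | rfl <;> simp [pow_two, ha2, hb2]
    | one => exact one_pow _
    | mul u v hu hv iu iv =>
      have huv : Commute u v := congrArg Subtype.val (mul_comm' (⟨u, hu⟩ : X) ⟨v, hv⟩)
      rw [huv.mul_pow, iu, iv, mul_one]
    | inv u _ iu => rw [inv_pow, iu, inv_one]
  obtain ⟨c, -, hc⟩ := conj_into A ((S : Subgroup G) ⊓ A) h.Pp h.Podd A inf_le_right le_rfl X hX
    ((Subgroup.closure_le _).mpr (by rintro u (rfl | rfl) <;> assumption))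
  have he₁ := hc a (Subgroup.subset_closure (by simp))
  have he₂ := hc b (Subgroup.subset_closure (by simp))
  by_cases hw : ∃ w ∈ (S : Subgroup G) ⊓ A, w * w = 1 ∧ w ≠ 1 ∧ w ≠ x * x ∧
      ∀ s ∈ (S : Subgroup G), s * w * s⁻¹ = w ∨ s * w * s⁻¹ = w * (x * x)
  · obtain ⟨w, hwP, hw2, hw1, hwz, hwc⟩ := hw
    have h4 : Four A (S : Subgroup G) t x (x * x) w :=
      { toCfg := h, wP := hwP, w2 := hw2, w1 := hw1, wz := hwz, wc := hwc }
    by_cases hxw : x * w = w * x
    · by_cases hg : ∃ g ∈ (S : Subgroup G) ⊓ A, g * w ≠ w * g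
      · obtain ⟨g, hgP, hgw⟩ := hg
        exact h4.false_of_swapped hxw hgP hgw
      · push Not at hg
        exact h4.false_of_central hg
    · exact h4.false_of_moved hxw
  · exact false_of_no_four h he₁ he₂ (by rw [conj_mul, ha2, mul_one, mul_inv_cancel])
      (by rw [conj_mul, hb2, mul_one, mul_inv_cancel]) (fun e => ha1 (conj_eq_one_iff.mp e))
      (fun e => hb1 (conj_eq_one_iff.mp e)) (fun e => hab (mul_left_cancel (mul_right_cancel e)))
      fun w hw' h2 h1 hz hcn => hw ⟨w, hw', h2, h1, hz, hcn⟩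

/-- An involution normalizing a perfect group whose fixed 2-subgroups are cyclic of order at most four, four being
attained, forces 2-rank one. -/
theorem prankLE_one {G : Type*} [Group G] [Finite G] (A : Subgroup G) (hA : ⁅A, A⁆ = A) (t : G) (ht : t * t = 1)
    (ht1 : t ≠ 1) (htN : t ∈ Subgroup.normalizer (A : Set G))
    (one : ∀ a ∈ A, ∀ b ∈ A, a * a = 1 → b * b = 1 → a ≠ 1 → b ≠ 1 → t * a = a * t → t * b = b * t →
      a * b = b * a → a = b)
    (four : ∀ Q : Subgroup G, IsPGroup 2 Q → Q ≤ A → (∀ q ∈ Q, t * q = q * t) → Nat.card Q ≤ 4)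
    {x : G} (hxA : x ∈ A) (htx : t * x = x * t) (hx2 : x * x ≠ 1) (hx4 : x * x * (x * x) = 1) :
    Cfsg.PRankLE 2 1 A := by
  classical
  haveI : Fact (Nat.Prime 2) := ⟨Nat.prime_two⟩
  by_contra hrank
  obtain ⟨⟨a, ha⟩, ⟨b, hb⟩, q1, q2, q3, q4, q5, q6⟩ := exists_two_involutions hrank
  replace q1 : a * a = 1 := congrArg Subtype.val q1
  replace q2 : b * b = 1 := congrArg Subtype.val q2
  replace q3 : a ≠ 1 := fun h => q3 (Subtype.ext h)
  replace q4 : b ≠ 1 := fun h => q4 (Subtype.ext h)
  replace q5 : a ≠ b := fun h => q5 (Subtype.ext h)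
  replace q6 : a * b = b * a := congrArg Subtype.val q6
  have htA : t ∉ A := by
    intro htA
    let t' : A := ⟨t, htA⟩
    have hto : orderOf t = 2 := orderOf_eq_prime (by rw [pow_two, ht]) ht1
    obtain ⟨P, hP⟩ := (IsPGroup.of_card (n := 1) (p := 2) (by
      rw [Nat.card_zpowers, Subgroup.orderOf_mk, hto, pow_one] :
      Nat.card (Subgroup.zpowers t') = 2 ^ 1)).exists_le_sylow
    obtain ⟨z, hzP, hz1, hz2, hzc⟩ := exists_central P.2 (⊤ : Subgroup (P : Subgroup A)) (fun hb' => by
      have h1 : (⟨t', hP (Subgroup.mem_zpowers t')⟩ : (P : Subgroup A)) ∈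
          (⊥ : Subgroup (P : Subgroup A)) := hb' ▸ Subgroup.mem_top _
      exact ht1 (congrArg (fun v : (P : Subgroup A) => ((v : A) : G)) (Subgroup.mem_bot.mp h1)))
    have hzt : ((z : A) : G) = t := by
      have hc := congrArg (fun v : (P : Subgroup A) => ((v : A) : G)) (hzc ⟨t', hP (Subgroup.mem_zpowers t')⟩)
      exact one _ (z : A).2 _ htA (congrArg (fun v : (P : Subgroup A) => ((v : A) : G)) hz2) ht
        (fun e => hz1 (Subtype.ext (Subtype.ext e))) ht1 hc rfl hc.symm
    let X : Subgroup A := Subgroup.closure ({⟨a, ha⟩, ⟨b, hb⟩} : Set A)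
    have hX : IsPGroup 2 X := by
      haveI : IsMulCommutative X := Subgroup.isMulCommutative_closure (by
        rintro u (rfl | rfl) v (rfl | rfl)
        · rfl
        · exact Subtype.ext q6
        · exact Subtype.ext q6.symm
        · rfl)
      refine fun ⟨y, hy⟩ => ⟨1, Subtype.ext ?_⟩
      show y ^ 2 ^ 1 = 1
      induction hy using Subgroup.closure_induction with
      | mem y hy => rcases hy with rfl | rfl <;> exact Subtype.ext (by simp [pow_two, q1, q2])
      | one => exact one_pow _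
      | mul u v hu hv iu iv =>
        have huv : Commute u v := congrArg Subtype.val (mul_comm' (⟨u, hu⟩ : X) ⟨v, hv⟩)
        rw [huv.mul_pow, iu, iv, mul_one]
      | inv u _ iu => rw [inv_pow, iu, inv_one]
    obtain ⟨R, hR⟩ := hX.exists_le_sylow
    obtain ⟨c, hc⟩ := MulAction.exists_smul_eq A R P
    have hmem : ∀ v, v ∈ X → c * v * c⁻¹ ∈ (P : Subgroup A) := fun v hv => by
      rw [← hc, Sylow.coe_subgroup_smul]
      exact Subgroup.smul_mem_pointwise_smul _ _ _ (hR hv)
    have hpt : ∀ v (hv : v ∈ (P : Subgroup A)), t * (v : G) = v * t := fun v hv => by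
      have hcv := congrArg (fun u : (P : Subgroup A) => ((u : A) : G)) (hzc ⟨v, hv⟩)
      simp only [Subgroup.coe_mul] at hcv
      rw [hzt] at hcv
      exact hcv.symm
    have e := one _ (c * ⟨a, ha⟩ * c⁻¹).2 _ (c * ⟨b, hb⟩ * c⁻¹).2
      (by simp only [Subgroup.coe_mul, Subgroup.coe_inv]; rw [conj_mul, q1, mul_one, mul_inv_cancel])
      (by simp only [Subgroup.coe_mul, Subgroup.coe_inv]; rw [conj_mul, q2, mul_one, mul_inv_cancel])
      (fun e => q3 (conj_eq_one_iff.mp e)) (fun e => q4 (conj_eq_one_iff.mp e))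
      (hpt _ (hmem _ (Subgroup.subset_closure (by simp)))) (hpt _ (hmem _ (Subgroup.subset_closure (by simp))))
      (by simp only [Subgroup.coe_mul, Subgroup.coe_inv]; rw [conj_mul, conj_mul, q6])
    exact q5 (by simpa using e)
  have hconj : ∀ g ∈ A, t * g * t⁻¹ ∈ A := fun g hg => (Subgroup.mem_normalizer_iff.mp htN g).mp hg
  have htinv : t⁻¹ = t := inv_eq_of_mul_eq_one_right ht
  let H : Subgroup G :=
    { carrier := {g | g ∈ A ∨ t * g ∈ A}
      one_mem' := Or.inl (one_mem A)
      mul_mem' := by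
        rintro u v (hu | hu) (hv | hv)
        · exact Or.inl (mul_mem hu hv)
        · refine Or.inr ?_
          rw [show t * (u * v) = (t * u * t⁻¹) * (t * v) by group]
          exact mul_mem (hconj u hu) hv
        · exact Or.inr (by rw [← mul_assoc]; exact mul_mem hu hv)
        · refine Or.inl ?_
          rw [show u * v = (t⁻¹ * (t * u) * t) * (t⁻¹ * t⁻¹ * (t * v)) by group, ← mul_inv_rev, ht, inv_one,
            one_mul]
          refine mul_mem ?_ hv
          have := hconj (t * u) hu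
          rwa [htinv] at this ⊢
      inv_mem' := by
        rintro u (hu | hu)
        · exact Or.inl (inv_mem hu)
        · refine Or.inr ?_
          rw [show t * u⁻¹ = t * (t * u)⁻¹ * t⁻¹ * (t * t) by group, ht, mul_one]
          exact hconj _ (inv_mem hu) }
  have htH : t ∈ H := Or.inr (by rw [ht]; exact one_mem A)
  have hAH : A ≤ H := fun g hg => Or.inl hg
  haveI : (A.subgroupOf H).Normal := ⟨fun g hg k => by
    show (k : G) * (g : G) * (k : G)⁻¹ ∈ A
    rcases k.2 with hk | hk
    · exact mul_mem (mul_mem hk hg) (inv_mem hk)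
    · rw [show (k : G) * g * (k : G)⁻¹ = t⁻¹ * ((t * k) * g * (t * k)⁻¹) * t⁻¹⁻¹ by group, htinv]
      exact hconj _ (mul_mem (mul_mem hk hg) (inv_mem hk))⟩
  refine false_of_cover (G := H) (A.subgroupOf H) ?_ ⟨t, htH⟩ (fun g => g.2) (Subtype.ext ht) htA
    (fun u hu v hv h1 h2 h3 h4 h5 h6 h7 => Subtype.ext (one u hu v hv (congrArg Subtype.val h1)
      (congrArg Subtype.val h2) (fun e => h3 (Subtype.ext e)) (fun e => h4 (Subtype.ext e))
      (congrArg Subtype.val h5) (congrArg Subtype.val h6) (congrArg Subtype.val h7)))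
    (fun Q hQ hQA hQt => ?_) (x := ⟨x, hAH hxA⟩) hxA (Subtype.ext htx) (fun e => hx2 (congrArg Subtype.val e))
    (Subtype.ext hx4) (a := ⟨a, hAH ha⟩) (b := ⟨b, hAH hb⟩) ha hb (Subtype.ext q1) (Subtype.ext q2)
    (fun e => q3 (congrArg Subtype.val e)) (fun e => q4 (congrArg Subtype.val e))
    (fun e => q5 (congrArg Subtype.val e)) (Subtype.ext q6)
  · refine Subgroup.map_injective H.subtype_injective ?_
    rw [Subgroup.map_commutator, Subgroup.map_subgroupOf_eq_of_le hAH, hA]
  · rw [← Subgroup.card_map_of_injective H.subtype_injective]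
    refine four (Q.map H.subtype) (hQ.map _) ?_ ?_
    · rintro _ ⟨q, hq, rfl⟩; exact hQA hq
    · rintro _ ⟨q, hq, rfl⟩; exact congrArg Subtype.val (hQt q hq)

end CfsgLib.FixedFour
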